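import Groth.Agent.Lib.ARSys.Strict

/-!
Systems that are `J`-adic up to translation: lifting, invariance, the two criteria for strict
systems, and permanence in short exact sequences.
-/

set_option linter.style.haveILetI false

universe w v u

open CategoryTheory CategoryTheory.Limits Opposite ZeroObject

namespace GrothLib.ARSys

open _root_.ARSys

variable {C : Type u} [Category.{v} C] [Abelian C]

section Lemmas

/-- A strict system which is null up to translation has epimorphic zero transitions. -/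
theorem isZero_of_strict_of_null {X : PS C} (hs : IsStrict X) (h : IsARNull X) (n : ℕ) :
    IsZero (X.obj (op n)) := by
  obtain ⟨r, hr⟩ := (isARNull_iff X).mp h
  haveI := hs n (n + r) (Nat.le_add_right n r)
  haveI : Epi (0 : X.obj (op (n + r)) ⟶ X.obj (op n)) := by
    rw [← hr (Nat.le_add_right n r) le_rfl]; infer_instance
  exact (IsZero.iff_id_eq_zero _).mpr ((cancel_epi (0 : X.obj (op (n + r)) ⟶ X.obj (op n))).mp (by simp))

/-- A morphism into a strict system with null cokernel is an epimorphism. -/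
theorem epi_of_null_cokernel {X Y : PS C} (f : X ⟶ Y) (hY : IsStrict Y) (h : IsARNull (cokernel f)) : Epi f := by
  have h0 : cokernel.π f = 0 :=
    hom_ext' fun n => (isZero_of_strict_of_null (isStrict_of_epi (cokernel.π f) hY) h n).eq_of_tgt _ _
  exact Abelian.epi_of_cokernel_π_eq_zero f h0

variable {S : ShortComplex (PS C)} {P B Q : PS C}

/-- Up to translation, the induced map on cokernels of an isomorphism is an isomorphism. -/
theorem arIso_cokernel_side (hS : S.ShortExact) (h : P ⟶ B) (π : B ⟶ Q) (hπ : h ≫ π = 0) [Epi π]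
    (k : P ⟶ S.X₁) (u : B ⟶ S.X₂) (w : Q ⟶ S.X₃) (c₁ : h ≫ u = k ≫ S.f) (c₂ : π ≫ w = u ≫ S.g)
    (hk : IsARIso k) (hu : IsARIso u) : IsARIso w := by
  obtain ⟨i⟩ := exists_arInv hk
  obtain ⟨j⟩ := exists_arInv hu
  have d₁ : ∀ n, h.app (op n) ≫ u.app (op n) = k.app (op n) ≫ S.f.app (op n) := fun n =>
    congrArg (fun f => NatTrans.app f (op n)) c₁
  have d₂ : ∀ n, π.app (op n) ≫ w.app (op n) = u.app (op n) ≫ S.g.app (op n) := fun n =>
    congrArg (fun f => NatTrans.app f (op n)) c₂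
  haveI : Epi S.g := hS.epi_g
  have hzero : ∀ {a b : ℕ} (hb : a + (i.r + 2 * j.r) ≤ b),
      S.f.app (op b) ≫ j.v (show a + j.r ≤ b by omega) ≫ π.app (op a) = 0 := by
    intro a b hb
    have h1 : S.f.app (op b) ≫ j.v (show a + j.r ≤ b by omega) =
        i.v (show a + j.r + i.r ≤ b by omega) ≫ h.app (op (a + j.r)) ≫ tr B (Nat.le_add_right a j.r) := by
      rw [← j.u_v (le_refl (a + j.r)), reassoc_of% (d₁ (a + j.r)), i.v_u_assoc, tr_app_assoc S.f, j.tr_v]
    rw [← Category.assoc, h1, Category.assoc, Category.assoc, tr_app π, ← Category.assoc (h.app _),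
      show h.app (op (a + j.r)) ≫ π.app (op (a + j.r)) = 0 from congrArg (fun f => NatTrans.app f (op (a + j.r))) hπ,
      zero_comp, comp_zero]
  haveI : ∀ n, Epi (S.map ((evaluation ℕᵒᵖ C).obj (op n))).g := fun n => (shortExact_app hS n).epi_g
  let v : ∀ {a b : ℕ}, a + (i.r + 2 * j.r) ≤ b → (S.X₃.obj (op b) ⟶ Q.obj (op a)) := fun {a b} hb =>
    (shortExact_app hS b).exact.desc (j.v (show a + j.r ≤ b by omega) ≫ π.app (op a)) (hzero hb)
  have hv : ∀ {a b : ℕ} (hb : a + (i.r + 2 * j.r) ≤ b),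
      S.g.app (op b) ≫ v hb = j.v (show a + j.r ≤ b by omega) ≫ π.app (op a) := fun {a b} hb =>
    (shortExact_app hS b).exact.g_desc _ _
  refine ARInv.arIso (u := w) ⟨i.r + 2 * j.r, v, ?_, ?_, ?_, ?_⟩
  · intro a b hb
    rw [← cancel_epi (S.g.app (op b)), reassoc_of% (hv hb), d₂, j.v_u_assoc, tr_app S.g]
  · intro a b hb
    rw [← cancel_epi (π.app (op b)), reassoc_of% (d₂ b), hv hb, j.u_v_assoc, tr_app π]
  · intro a b b' hb hb'
    rw [← cancel_epi (S.g.app (op b')), ← Category.assoc, ← tr_app S.g, Category.assoc, hv hb, hv, j.tr_v_assoc]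
    all_goals omega
  · intro a a' b hb ha
    rw [← cancel_epi (S.g.app (op b)), reassoc_of% (hv hb), hv, ← tr_app π, j.v_tr_assoc]
    all_goals omega

/-- Up to translation, the induced map on kernels of an isomorphism is an isomorphism. -/
theorem arIso_kernel_side (hS : S.ShortExact) (ι : P ⟶ B) (p : B ⟶ Q) (hex : ι ≫ p = 0)
    (hE : (ShortComplex.mk ι p hex).Exact) [Mono ι]
    (k : P ⟶ S.X₁) (u : B ⟶ S.X₂) (w : Q ⟶ S.X₃) (c₁ : ι ≫ u = k ≫ S.f) (c₂ : p ≫ w = u ≫ S.g)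
    (hu : IsARIso u) (hw : IsARIso w) : IsARIso k := by
  obtain ⟨i⟩ := exists_arInv hw
  obtain ⟨j⟩ := exists_arInv hu
  have d₁ : ∀ n, ι.app (op n) ≫ u.app (op n) = k.app (op n) ≫ S.f.app (op n) := fun n =>
    congrArg (fun f => NatTrans.app f (op n)) c₁
  have d₂ : ∀ n, p.app (op n) ≫ w.app (op n) = u.app (op n) ≫ S.g.app (op n) := fun n =>
    congrArg (fun f => NatTrans.app f (op n)) c₂
  haveI : Mono S.f := hS.mono_f
  have hfg : ∀ n, S.f.app (op n) ≫ S.g.app (op n) = 0 := fun n =>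
    congrArg (fun f => NatTrans.app f (op n)) S.zero
  have hzero : ∀ {a b : ℕ} (hb : a + (j.r + i.r) ≤ b),
      (S.f.app (op b) ≫ j.v (show a + j.r ≤ b by omega)) ≫ p.app (op a) = 0 := by
    intro a b hb
    have e : (S.f.app (op b) ≫ j.v (show (a + i.r) + j.r ≤ b by omega)) ≫ p.app (op (a + i.r)) ≫ w.app (op (a + i.r)) = 0 := by
      rw [d₂, Category.assoc, j.v_u_assoc, tr_app S.g, reassoc_of% (hfg b), zero_comp]
    rw [← j.v_tr (show (a + i.r) + j.r ≤ b by omega) (Nat.le_add_right a i.r), Category.assoc, Category.assoc,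
      tr_app p, ← i.u_v (le_refl (a + i.r))]
    simpa using congrArg (· ≫ i.v (le_refl (a + i.r))) e
  haveI : ∀ n, Mono ((ShortComplex.mk ι p hex).map ((evaluation ℕᵒᵖ C).obj (op n))).f := fun n =>
    (inferInstance : Mono (ι.app (op n)))
  let v : ∀ {a b : ℕ}, a + (j.r + i.r) ≤ b → (S.X₁.obj (op b) ⟶ P.obj (op a)) := fun {a b} hb =>
    (exact_app hE a).lift (S.f.app (op b) ≫ j.v (show a + j.r ≤ b by omega)) (hzero hb)
  have hv : ∀ {a b : ℕ} (hb : a + (j.r + i.r) ≤ b),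
      v hb ≫ ι.app (op a) = S.f.app (op b) ≫ j.v (show a + j.r ≤ b by omega) := fun {a b} hb =>
    (exact_app hE a).lift_f _ _
  refine ARInv.arIso (u := k) ⟨j.r + i.r, v, ?_, ?_, ?_, ?_⟩
  · intro a b hb
    rw [← cancel_mono (S.f.app (op a)), Category.assoc, ← d₁, reassoc_of% (hv hb), j.v_u, tr_app S.f]
  · intro a b hb
    rw [← cancel_mono (ι.app (op a)), Category.assoc, hv hb, ← reassoc_of% (d₁ b), j.u_v, tr_app ι]
  · intro a b b' hb hb'
    rw [← cancel_mono (ι.app (op a)), Category.assoc, hv hb, hv, tr_app_assoc S.f, j.tr_v]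
    all_goals omega
  · intro a a' b hb ha
    rw [← cancel_mono (ι.app (op a')), Category.assoc, tr_app ι, reassoc_of% (hv hb), hv, j.v_tr]
    all_goals omega

end Lemmas

variable {A : Type w} [CommRing A] [Linear A C] {J : Ideal A}

section Adic

theorem adic_X₃_of_strict {S : ShortComplex (PS C)} (hS : S.ShortExact) (h₁ : IsStrict S.X₁)
    (h₂ : IsAdic J S.X₂) : IsAdic J S.X₃ := by
  haveI : Epi S.g := hS.epi_g
  refine ⟨termKilled_of_epi S.g h₂.1, fun n m h => ?_⟩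
  haveI := h₁ n m h
  haveI : Epi (tr S.X₃ h) := isStrict_of_epi S.g (isStrict_of_isAdic h₂) n m h
  refine ⟨termKilled_of_epi S.g h₂.1 n, fun Y φ hφ => ?_⟩
  obtain ⟨ψ, hψ, -⟩ := (h₂.2 n m h).2 Y (S.g.app (op m) ≫ φ) (homKilledBy_precomp hφ _)
  have h0 : S.f.app (op n) ≫ ψ = 0 := by
    rw [← cancel_epi (tr S.X₁ h), comp_zero, ← Category.assoc, tr_app, Category.assoc, hψ, ← Category.assoc,
      show S.f.app (op m) ≫ S.g.app (op m) = 0 from congrArg (fun f => NatTrans.app f (op m)) S.zero, zero_comp]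
  haveI : Epi (S.map ((evaluation ℕᵒᵖ C).obj (op n))).g := (shortExact_app hS n).epi_g
  let χ : S.X₃.obj (op n) ⟶ Y := (shortExact_app hS n).exact.desc ψ h0
  have hχ : S.g.app (op n) ≫ χ = ψ := (shortExact_app hS n).exact.g_desc _ _
  refine ⟨χ, ?_, fun y hy => ?_⟩
  · show tr S.X₃ h ≫ χ = φ
    rw [← cancel_epi (S.g.app (op m)), ← Category.assoc, ← tr_app, Category.assoc, hχ, hψ]
  · replace hy : tr S.X₃ h ≫ y = φ := hy
    rw [← cancel_epi (tr S.X₃ h), hy, ← cancel_epi (S.g.app (op m)), ← Category.assoc (S.g.app _), ← tr_app,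
      Category.assoc, hχ, hψ]

theorem strict_X₁_of_adic_X₃ {S : ShortComplex (PS C)} (hS : S.ShortExact) (k₂ : TermKilled J S.X₂)
    (h₂ : IsStrict S.X₂) (h₃ : IsAdic J S.X₃) : IsStrict S.X₁ := by
  haveI : Epi S.g := hS.epi_g
  haveI : Mono S.f := hS.mono_f
  intro n m h
  refine Preadditive.epi_of_cancel_zero (tr S.X₁ h) fun {Q} q hq => ?_
  have hsq := pushout.condition (f := S.f.app (op n)) (g := q)
  haveI : Mono (pushout.inr (S.f.app (op n)) q) := inferInstance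
  have h0 : S.f.app (op m) ≫ tr S.X₂ h ≫ pushout.inl (S.f.app (op n)) q = 0 := by
    rw [← tr_app_assoc, hsq, ← Category.assoc, hq, zero_comp]
  haveI : Epi (S.map ((evaluation ℕᵒᵖ C).obj (op m))).g := (shortExact_app hS m).epi_g
  let σ₀ : S.X₃.obj (op m) ⟶ pushout (S.f.app (op n)) q :=
    (shortExact_app hS m).exact.desc (tr S.X₂ h ≫ pushout.inl _ _) h0
  have hσ₀ : S.g.app (op m) ≫ σ₀ = tr S.X₂ h ≫ pushout.inl _ _ := (shortExact_app hS m).exact.g_desc _ _
  have hk : HomKilledBy (J ^ (n + 1)) σ₀ := homKilledBy_of_epi_comp (S.g.app (op m))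
    (by rw [hσ₀]; exact homKilledBy_postcomp (homKilledBy_of_tgt (k₂ n) _) _)
  obtain ⟨σ, hσ, -⟩ := (h₃.2 n m h).2 _ σ₀ hk
  haveI := h₂ n m h
  have e : S.g.app (op n) ≫ σ = pushout.inl (S.f.app (op n)) q := by
    rw [← cancel_epi (tr S.X₂ h), tr_app_assoc, hσ, hσ₀]
  rw [← cancel_mono (pushout.inr (S.f.app (op n)) q), zero_comp, ← hsq, ← e, ← Category.assoc,
    show S.f.app (op n) ≫ S.g.app (op n) = 0 from congrArg (fun f => NatTrans.app f (op n)) S.zero, zero_comp]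

/-- Lifting a map from an adic system through an isomorphism up to translation. -/
theorem existsUnique_lift {Z P Q : PS C} {u : P ⟶ Q} (hu : IsARIso u) (hZ : IsAdic J Z) (hP : TermKilled J P)
    (φ : Z ⟶ Q) : ∃! ψ : Z ⟶ P, ψ ≫ u = φ := by
  obtain ⟨i⟩ := exists_arInv hu
  have hφ : ∀ n, shiftMap Z i.r n ≫ φ.app (op n) = φ.app (op (n + i.r)) ≫ tr Q (Nat.le_add_right n i.r) :=
    fun n => tr_app φ _
  obtain ⟨g, hg, -⟩ := existsUnique_hom_of_shift hZ hP i.r ((shift C i.r).map φ ≫ i.hom)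
  have hg' : ∀ n, φ.app (op (n + i.r)) ≫ i.v le_rfl = shiftMap Z i.r n ≫ g.app (op n) := hg
  refine ⟨g, shift_hom_unique (isStrict_of_isAdic hZ) i.r _ _ fun n => ?_, fun g' hg'' => ?_⟩
  · rw [hφ, NatTrans.comp_app, ← Category.assoc, ← hg']
    erw [Category.assoc]
    rw [i.v_u]
    rfl
  · refine shift_hom_unique (isStrict_of_isAdic hZ) i.r _ _ fun n => ?_
    rw [← hg', ← hg'', NatTrans.comp_app, Category.assoc, i.u_v]
    exact tr_app g' _

theorem hom_ext_of_arIso {Z P Q : PS C} {u : P ⟶ Q} (hu : IsARIso u) (hZ : IsStrict Z) {a b : Z ⟶ P}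
    (h : a ≫ u = b ≫ u) : a = b := by
  obtain ⟨i⟩ := exists_arInv hu
  refine shift_hom_unique hZ i.r _ _ fun n => ?_
  show tr Z (Nat.le_add_right n i.r) ≫ _ = tr Z (Nat.le_add_right n i.r) ≫ _
  rw [tr_app a, tr_app b, ← i.u_v le_rfl, ← NatTrans.comp_app_assoc, h, NatTrans.comp_app_assoc]

theorem exists_arIso_of_shift {X Y : PS C} (hY : IsAdic J Y) (hX : TermKilled J X) (r : ℕ)
    (v : (shift C r).obj Y ⟶ X) (hv : IsARIso v) : ∃ u : Y ⟶ X, IsARIso u := by
  obtain ⟨g, hg, -⟩ := existsUnique_hom_of_shift hY hX r v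
  refine ⟨g, arIso_of_comp_left (shiftHom Y r) g (arIso_shiftHom Y r) ?_⟩
  rwa [show shiftHom Y r ≫ g = v from hom_ext' fun n => (hg n).symm]

theorem arAdic_of_arIso_fwd {P Q : PS C} {u : P ⟶ Q} (hu : IsARIso u) (hP : IsARAdic J P)
    (hQ : TermKilled J Q) : IsARAdic J Q := by
  obtain ⟨-, Y, y, hY, hy⟩ := hP
  exact ⟨hQ, Y, y ≫ u, hY, arIso_comp hy hu⟩

theorem arAdic_of_arIso_bwd {P Q : PS C} {u : P ⟶ Q} (hu : IsARIso u) (hP : TermKilled J P)
    (hQ : IsARAdic J Q) : IsARAdic J P := by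
  obtain ⟨-, Y, y, hY, hy⟩ := hQ
  obtain ⟨ψ, hψ, -⟩ := existsUnique_lift hu hY hP y
  exact ⟨hP, Y, ψ, hY, arIso_of_comp_right ψ u hu (by rwa [hψ])⟩

theorem isMLAR_of_arAdic {X : PS C} (hX : IsARAdic J X) : IsMLAR X := by
  obtain ⟨-, Y, y, hY, hy⟩ := hX
  exact isMLAR_of_arIso hy (isMLAR_of_strict (isStrict_of_isAdic hY))

theorem arAdic_of_adic {X : PS C} (hX : IsAdic J X) : IsARAdic J X :=
  ⟨hX.1, X, 𝟙 X, hX, arIso_of_isIso _⟩

theorem epi_v {X Y : PS C} {u : X ⟶ Y} (i : ARInv u) (hX : IsStrict X) {a b : ℕ} (h : a + i.r ≤ b) :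
    Epi (i.v h) := by
  haveI := hX a b ((Nat.le_add_right a i.r).trans h)
  haveI : Epi (u.app (op b) ≫ i.v h) := by rw [i.u_v]; infer_instance
  exact epi_of_epi (u.app (op b)) _

theorem killed_pullback {X Y Z : PS C} (f : X ⟶ Z) (g : Y ⟶ Z) (hX : TermKilled J X) (hY : TermKilled J Y) :
    TermKilled J (pullback f g) := by
  intro n a ha
  have h1 : ((pullback.fst f g).app (op n)) = (pullback.fst f g).app (op n) := rfl
  have key : ∀ {W : PS C} (q : pullback f g ⟶ W), TermKilled J W →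
      (a • 𝟙 ((pullback f g).obj (op n))) ≫ q.app (op n) = 0 := fun q hW => by
    rw [Linear.smul_comp, Category.id_comp]
    exact homKilledBy_of_tgt (hW n) _ a ha
  have hpb := (IsPullback.of_hasPullback f g).map ((evaluation ℕᵒᵖ C).obj (op n))
  apply hpb.hom_ext
  · rw [zero_comp]; exact key _ hX
  · rw [zero_comp]; exact key _ hY

end Adic

section Strict

variable {X : PS C}

/-- For a strict system which is adic up to translation, the shifted inverse consists of quotient maps. -/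
theorem isQuot_v {Y : PS C} {u : Y ⟶ X} (i : ARInv u) (hX : IsStrict X) (hY : IsAdic J Y) {a b : ℕ}
    (h : a + i.r ≤ b) : IsQuot (J ^ (a + 1)) (i.v h) := by
  haveI : Epi u := epi_of_arIso i.arIso hX
  refine ⟨hY.1 a, fun Z φ hφ => ?_⟩
  obtain ⟨ψ, hψ, huniq⟩ := (hY.2 a b ((Nat.le_add_right a i.r).trans h)).2 Z (u.app (op b) ≫ φ)
    (homKilledBy_precomp hφ _)
  refine ⟨ψ, ?_, fun y hy => huniq y ?_⟩
  · show i.v h ≫ ψ = φ
    rw [← cancel_epi (u.app (op b)), ← Category.assoc, i.u_v, hψ]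
  · replace hy : i.v h ≫ y = φ := hy
    show tr Y _ ≫ y = _
    rw [← hy, ← Category.assoc, i.u_v]

theorem arAdic_of_quot {r : ℕ} {Y : PS C} (q : (shift C r).obj X ⟶ Y) (kX : TermKilled J X)
    (hq : ∀ n : ℕ, IsQuot (J ^ (n + 1)) (q.app (op n))) (hY : IsAdic J Y) : IsARAdic J X := by
  let qa : ∀ n, X.obj (op (n + r)) ⟶ Y.obj (op n) := fun n => q.app (op n)
  have hqa : ∀ n, IsQuot (J ^ (n + 1)) (qa n) := hq
  have hqn : ∀ {a b : ℕ} (h : a ≤ b), tr X (Nat.add_le_add_right h r) ≫ qa a = qa b ≫ tr Y h :=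
    fun {a b} h => tr_app q h
  let g : ∀ n, Y.obj (op n) ⟶ X.obj (op n) := fun n =>
    IsQuot.desc (hqa n) (tr X (Nat.le_add_right n r)) (homKilledBy_of_tgt (kX n) _)
  have hg : ∀ n, qa n ≫ g n = tr X (Nat.le_add_right n r) := fun n => IsQuot.fac _ _ _
  have hnat : ∀ (a b : ℕ) (h : a ≤ b), tr Y h ≫ g a = g b ≫ tr X h := by
    intro a b h
    haveI := IsQuot.epi (hqa b)
    rw [← cancel_epi (qa b), ← Category.assoc, ← hqn, Category.assoc, hg, tr_tr, ← Category.assoc, hg, tr_tr]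
  refine ⟨kX, Y, mkHom g hnat, hY, ARInv.arIso (u := mkHom g hnat)
    ⟨r, fun {a b} h => tr X h ≫ qa a, ?_, ?_, ?_, ?_⟩⟩
  · intro a b h
    rw [mkHom_app, Category.assoc, hg, tr_tr]
  · intro a b h
    haveI := IsQuot.epi (hqa b)
    rw [mkHom_app, ← cancel_epi (qa b), reassoc_of% (hg b), tr_tr_assoc,
      ← tr_tr_assoc X (show a + r ≤ b + r by omega) (le_refl (b + r)), tr_self, Category.id_comp, hqn]
  · intro a b b' h hb
    rw [tr_tr_assoc]
  · intro a a' b h ha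
    rw [Category.assoc, ← hqn, tr_tr_assoc]

theorem exists_quot_of_arAdic (hX : IsStrict X) (h : IsARAdic J X) :
    ∃ (r : ℕ) (Y : PS C) (q : (shift C r).obj X ⟶ Y),
      (∀ n : ℕ, IsQuot (J ^ (n + 1)) (q.app (op n))) ∧ IsAdic J Y := by
  obtain ⟨-, Y, u, hY, hu⟩ := h
  obtain ⟨i⟩ := exists_arInv hu
  exact ⟨i.r, Y, i.hom, fun n => isQuot_v i hX hY le_rfl, hY⟩

theorem exists_fker_bound (hX : IsStrict X) (h : IsARAdic J X) :
    ∃ r : ℕ, 0 < r ∧ ∀ n : ℕ, SubLEIdeal (J ^ (n - r)) (Fker X n) := by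
  obtain ⟨-, Y, u, hY, hu⟩ := h
  obtain ⟨i⟩ := exists_arInv hu
  refine ⟨i.r + 1, Nat.succ_pos _, fun n => ?_⟩
  rcases Nat.lt_or_ge n (i.r + 1) with hn | hn
  · rw [Nat.sub_eq_zero_of_le hn.le, pow_zero, Ideal.one_eq_top]
    exact subLE_top_ideal _
  · obtain ⟨k, rfl⟩ : ∃ k, n = k + 1 := ⟨n - 1, by omega⟩
    refine subLE_ideal_mono (Ideal.pow_le_pow_right (by omega : k + 1 - (i.r + 1) ≤ k - i.r + 1)) ?_
    refine subLE_of_le ?_ (IsQuot.subLE_ker (isQuot_v i hX hY (show (k - i.r) + i.r ≤ k + 1 by omega)))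
    rw [← i.tr_v (show (k - i.r) + i.r ≤ k by omega) (Nat.le_succ k)]
    exact kernelSubobject_comp_le _ _

theorem descend (hX : IsStrict X) {r : ℕ} (hr : ∀ n : ℕ, SubLEIdeal (J ^ (n - r)) (Fker X n)) {a c : ℕ}
    (hc : a + r ≤ c) {Z : C} : ∀ (d : ℕ) (φ : X.obj (op (c + d)) ⟶ Z), HomKilledBy (J ^ (a + 1)) φ →
      ∃ ψ : X.obj (op c) ⟶ Z, tr X (Nat.le_add_right c d) ≫ ψ = φ := by
  intro d
  induction d with
  | zero => intro φ _; exact ⟨φ, by simp⟩
  | succ d ih =>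
    intro φ hφ
    haveI := hX (c + d) (c + (d + 1)) (Nat.le_succ _)
    have h0 : (kernelSubobject (tr X (Nat.le_succ (c + d)))).arrow ≫ φ = 0 :=
      hr (c + d + 1) Z φ (homKilledBy_mono (Ideal.pow_le_pow_right (by omega)) hφ)
    obtain ⟨φ', hφ', -⟩ := desc_of_ker_le (tr X (Nat.le_succ (c + d))) φ h0
    obtain ⟨ψ, hψ⟩ := ih φ' (homKilledBy_of_epi_comp (tr X (Nat.le_succ (c + d))) (by rw [hφ']; exact hφ))
    exact ⟨ψ, by rw [← hφ', ← hψ, tr_tr_assoc]⟩

theorem arAdic_of_fker_bound (hJ : J.FG ∨ HasCoproducts.{w} C) (hX : IsStrict X) (kX : TermKilled J X)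
    (r : ℕ) (hr : ∀ n : ℕ, SubLEIdeal (J ^ (n - r)) (Fker X n)) : IsARAdic J X := by
  choose M hM using fun n : ℕ => exists_isSmulSub hJ (n + 1) (X.obj (op (n + r)))
  let q : ∀ n, X.obj (op (n + r)) ⟶ cokernel (M n).arrow := fun n => cokernel.π _
  have hq : ∀ n, IsQuot (J ^ (n + 1)) (q n) := fun n => (hM n).isQuot
  have hk : ∀ {a b : ℕ} (h : a ≤ b), HomKilledBy (J ^ (b + 1)) (tr X (Nat.add_le_add_right h r) ≫ q a) :=
    fun {a b} h => homKilledBy_mono (pow_succ_le h) (homKilledBy_of_tgt (hq a).1 _)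
  let t : ∀ {a b : ℕ}, a ≤ b → (cokernel (M b).arrow ⟶ cokernel (M a).arrow) := fun {a b} h =>
    IsQuot.desc (hq b) _ (hk h)
  have ht : ∀ {a b : ℕ} (h : a ≤ b), q b ≫ t h = tr X (Nat.add_le_add_right h r) ≫ q a := fun h => IsQuot.fac _ _ _
  let Y : PS C :=
    { obj := fun n => cokernel (M n.unop).arrow
      map := fun {a b} φ => t (leOfHom φ.unop)
      map_id := fun a => by
        haveI := IsQuot.epi (hq a.unop)
        rw [← cancel_epi (q a.unop), ht, tr_self, Category.id_comp, Category.comp_id]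
        exact le_rfl
      map_comp := fun {a b c} φ ψ => by
        haveI := IsQuot.epi (hq a.unop)
        rw [← cancel_epi (q a.unop), ht, ← Category.assoc, ht, Category.assoc, ht, tr_tr_assoc]
        all_goals first | exact leOfHom φ.unop | exact leOfHom ψ.unop | exact leOfHom (φ ≫ ψ).unop }
  let qh : (shift C r).obj X ⟶ Y := mkHom q fun a b h => (ht h).symm
  refine arAdic_of_quot qh kX hq ⟨fun n => (hq n).1, fun n m h => ⟨(hq n).1, fun Z φ hφ => ?_⟩⟩
  haveI := IsQuot.epi (hq m)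
  obtain ⟨d, hd⟩ : ∃ d, m + r = n + r + d := ⟨m - n, by omega⟩
  haveI := hX (n + r + d) (m + r) hd.ge
  haveI := isIso_tr X hd.ge hd.symm
  obtain ⟨φ', hφ'⟩ : ∃ φ' : X.obj (op (n + r + d)) ⟶ Z, tr X hd.ge ≫ φ' = q m ≫ φ :=
    ⟨inv (tr X hd.ge) ≫ q m ≫ φ, by simp⟩
  obtain ⟨ψ, hψ⟩ := descend hX hr (le_refl (n + r)) d φ'
    (homKilledBy_of_epi_comp (tr X hd.ge) (by rw [hφ']; exact homKilledBy_precomp hφ _))
  haveI := hX (n + r) (m + r) (Nat.add_le_add_right h r)
  have hψk : HomKilledBy (J ^ (n + 1)) ψ := homKilledBy_of_epi_comp (tr X (Nat.add_le_add_right h r))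
    (by rw [← tr_tr_assoc X (Nat.le_add_right (n + r) d) hd.ge, hψ, hφ']; exact homKilledBy_precomp hφ _)
  refine ⟨IsQuot.desc (hq n) ψ hψk, ?_, fun y hy => ?_⟩
  · show t h ≫ _ = φ
    rw [← cancel_epi (q m), ← Category.assoc, ht, Category.assoc, IsQuot.fac,
      ← tr_tr_assoc X (Nat.le_add_right (n + r) d) hd.ge, hψ, hφ']
    all_goals exact h
  · haveI := IsQuot.epi (hq n)
    have hy' : t h ≫ y = φ := hy
    rw [← cancel_epi (q n), IsQuot.fac, ← cancel_epi (tr X (Nat.add_le_add_right h r)), ← Category.assoc, ← ht,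
      Category.assoc, hy', ← tr_tr_assoc X (Nat.le_add_right (n + r) d) hd.ge, hψ, hφ']
    all_goals exact h

end Strict

section Sequences

variable {S : ShortComplex (PS C)}

theorem adic_extension (hJ : J.FG ∨ HasCoproducts.{w} C) (hS : S.ShortExact) (k₂ : TermKilled J S.X₂)
    (h₁ : IsAdic J S.X₁) (h₃ : IsAdic J S.X₃) : IsAdic J S.X₂ := by
  haveI : Epi S.g := hS.epi_g
  haveI : Mono S.f := hS.mono_f
  refine ⟨k₂, fun n m h => ?_⟩
  haveI := adic_epi h₁ h
  haveI := adic_epi h₃ h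
  let se := shortExact_app hS n
  let sm := shortExact_app hS m
  haveI : Epi (tr S.X₂ h) := by
    rw [epi_iff_surjective_up_to_refinements]
    intro T y
    obtain ⟨T₁, π₁, hπ₁, z, hz⟩ := surjective_up_to_refinements_of_epi (tr S.X₃ h) (y ≫ S.g.app (op n))
    obtain ⟨T₂, π₂, hπ₂, x, hx⟩ := surjective_up_to_refinements_of_epi (S.g.app (op m)) z
    have h0 : (π₂ ≫ π₁ ≫ y - x ≫ tr S.X₂ h) ≫ S.g.app (op n) = 0 := by
      rw [Preadditive.sub_comp, Category.assoc, Category.assoc, hz, Category.assoc, tr_app S.g,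
        reassoc_of% hx, sub_self]
    obtain ⟨T₃, π₃, hπ₃, e, he⟩ := se.exact.exact_up_to_refinements _ h0
    let e₁ : T₃ ⟶ S.X₁.obj (op n) := e
    have he' : π₃ ≫ (π₂ ≫ π₁ ≫ y - x ≫ tr S.X₂ h) = e₁ ≫ S.f.app (op n) := he
    clear_value e₁
    obtain ⟨T₄, π₄, hπ₄, e', he''⟩ := surjective_up_to_refinements_of_epi (tr S.X₁ h) e₁
    refine ⟨T₄, π₄ ≫ π₃ ≫ π₂ ≫ π₁, epi_comp' hπ₄ (epi_comp' hπ₃ (epi_comp' hπ₂ hπ₁)),
      π₄ ≫ π₃ ≫ x + e' ≫ S.f.app (op m), ?_⟩
    rw [Preadditive.add_comp, Category.assoc e', ← tr_app S.f, ← reassoc_of% he'', ← he']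
    simp
  refine isQuot_of_epi _ (k₂ n) ?_
  obtain ⟨M₂, hM₂⟩ := exists_isSmulSub hJ (n + 1) (S.X₂.obj (op m))
  obtain ⟨M₃, hM₃⟩ := exists_isSmulSub hJ (n + 1) (S.X₃.obj (op m))
  obtain ⟨M₁, hM₁⟩ := exists_isSmulSub hJ (n + 1) (S.X₁.obj (op m))
  rw [hM₂.subLE_iff]
  have hk3 : kernelSubobject (tr S.X₃ h) ≤ M₃ := (hM₃.subLE_iff _).mp (IsQuot.subLE_ker (h₃.2 n m h))
  have hk1 : kernelSubobject (tr S.X₁ h) ≤ M₁ := (hM₁.subLE_iff _).mp (IsQuot.subLE_ker (h₁.2 n m h))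
  have hM2k : M₂ ≤ kernelSubobject (tr S.X₂ h) :=
    le_kernelSubobject _ _ ((hM₂.homKilled_iff _).mp (homKilledBy_of_tgt (k₂ n) _))
  rw [le_iff_factors]
  intro T x hx
  rw [kernelSubobject_factors_iff] at hx
  have h3 : (M₂ ⊔ img (S.f.app (op m)) ⊤).Factors x := by
    have : M₃.Factors (x ≫ S.g.app (op m)) := Subobject.factors_of_le _ hk3
      ((kernelSubobject_factors_iff _ _).mpr (by rw [Category.assoc, ← tr_app, ← Category.assoc, hx, zero_comp]))
    rw [← hM₂.img_of_epi hM₃ (S.g.app (op m)), ← factors_pre_iff, pre_img] at this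
    refine Subobject.factors_of_le _ (sup_le_sup_left ?_ _) this
    rw [le_iff_factors]
    intro T' y hy
    rw [kernelSubobject_factors_iff] at hy
    obtain ⟨T'', π, hπ, z, hz⟩ := sm.exact.exact_up_to_refinements y hy
    exact (factors_img_iff _ _ _).mpr ⟨T'', π, hπ, z, Subobject.top_factors _, hz⟩
  obtain ⟨T', π, hπ, p, q, hp, hq, e⟩ := (factors_sup_iff _).mp h3
  obtain ⟨T'', π', hπ', y, -, hy⟩ := (factors_img_iff _ _ _).mp hq
  have hy0 : y ≫ tr S.X₁ h = 0 := by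
    have hp0 : p ≫ tr S.X₂ h = 0 := (kernelSubobject_factors_iff _ _).mp (Subobject.factors_of_le _ hM2k hp)
    have hq0 : q ≫ tr S.X₂ h = 0 := by
      rw [show q = π ≫ x - p by rw [e]; abel, Preadditive.sub_comp, Category.assoc, hx, comp_zero, hp0, sub_zero]
    rw [← cancel_mono (S.f.app (op n)), zero_comp, Category.assoc, tr_app, ← Category.assoc, ← hy, Category.assoc, hq0,
      comp_zero]
  refine factors_of_epi π (factors_of_epi π' ?_)
  rw [e, Preadditive.comp_add, hy]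
  refine Subobject.factors_add _ _ (Subobject.factors_of_factors_right _ hp) ?_
  exact Subobject.factors_of_le _ (hM₁.img_le hM₂ _)
    (factors_img _ (Subobject.factors_of_le _ hk1 ((kernelSubobject_factors_iff _ _).mpr hy0)))

theorem arAdic_X₃ (hS : S.ShortExact) (k₃ : TermKilled J S.X₃)
    (h₁ : IsMLAR S.X₁) (h₂ : IsARAdic J S.X₂) : IsARAdic J S.X₃ := by
  haveI : Mono S.f := hS.mono_f
  obtain ⟨-, Y, u, hY, hu⟩ := h₂
  have hfst : IsARIso (pullback.fst S.f u) := arIso_of_isPullback (IsPullback.of_hasPullback S.f u) hu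
  obtain ⟨P', ι, hι, hP', hιa⟩ := exists_strict_sub (isMLAR_of_arIso_tgt hfst h₁)
  let m := ι ≫ pullback.snd S.f u
  haveI : Mono m := mono_comp _ _
  let T : ShortComplex (PS C) := ShortComplex.mk m (cokernel.π m) (cokernel.condition m)
  have hT : T.ShortExact :=
    { exact := ShortComplex.exact_cokernel m
      mono_f := inferInstanceAs (Mono m)
      epi_g := inferInstanceAs (Epi (cokernel.π m)) }
  have hQ : IsAdic J (cokernel m) := adic_X₃_of_strict hT hP' hY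
  have hzero : m ≫ u ≫ S.g = 0 := by
    simp only [m, Category.assoc, ← pullback.condition_assoc, S.zero, comp_zero]
  refine ⟨k₃, cokernel m, cokernel.desc m (u ≫ S.g) hzero, hQ, ?_⟩
  exact arIso_cokernel_side hS m (cokernel.π m) (cokernel.condition m) (ι ≫ pullback.fst S.f u) u _
    (by simp only [m, Category.assoc, pullback.condition]) (cokernel.π_desc _ _ _) (arIso_comp hιa hfst) hu

/-- The strict replacement of a system over an adic one. -/
theorem exists_strict_over_adic {X Y Z : PS C} (g : X ⟶ Z) [Epi g] (u : Y ⟶ Z) (hX : IsMLAR X)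
    (kX : TermKilled J X) (hY : IsAdic J Y) (hu : IsARIso u) :
    ∃ (B : PS C) (b : B ⟶ X) (p : B ⟶ Y), Epi p ∧ IsStrict B ∧ TermKilled J B ∧ IsARIso b ∧
      IsStrict (kernel p) ∧ TermKilled J (kernel p) ∧ p ≫ u = b ≫ g := by
  have hfst : IsARIso (pullback.fst g u) := arIso_of_isPullback (IsPullback.of_hasPullback g u) hu
  obtain ⟨B, ι, hι, hB, hιa⟩ := exists_strict_sub (isMLAR_of_arIso_tgt hfst hX)
  let p := ι ≫ pullback.snd g u
  haveI : Epi (pullback.snd g u) := Abelian.epi_pullback_of_epi_f g u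
  have hp : Epi p := epi_of_null_cokernel p (isStrict_of_isAdic hY)
    ((Null C).epiModSerre.comp_mem ι (pullback.snd g u) hιa.2 ((Null C).epiModSerre_of_epi _))
  have kB : TermKilled J B := termKilled_of_mono ι (killed_pullback g u kX hY.1)
  let T : ShortComplex (PS C) := ShortComplex.mk (kernel.ι p) p (kernel.condition p)
  have hT : T.ShortExact :=
    { exact := ShortComplex.exact_kernel p
      mono_f := inferInstanceAs (Mono (kernel.ι p))
      epi_g := hp }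
  exact ⟨B, ι ≫ pullback.fst g u, p, hp, hB, kB, arIso_comp hιa hfst, strict_X₁_of_adic_X₃ hT kB hB hY,
    termKilled_of_mono (kernel.ι p) kB, by simp only [p, Category.assoc, pullback.condition]⟩

theorem exists_kernel_arIso (hS : S.ShortExact) {B Y : PS C} (b : B ⟶ S.X₂) (p : B ⟶ Y) (u : Y ⟶ S.X₃)
    (hb : IsARIso b) (hu : IsARIso u) (c : p ≫ u = b ≫ S.g) :
    ∃ k : kernel p ⟶ S.X₁, IsARIso k ∧ k ≫ S.f = kernel.ι p ≫ b := by
  haveI : Mono S.f := hS.mono_f
  have h0 : (kernel.ι p ≫ b) ≫ S.g = 0 := by rw [Category.assoc, ← c, kernel.condition_assoc, zero_comp]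
  exact ⟨hS.exact.lift _ h0, arIso_kernel_side hS (kernel.ι p) p (kernel.condition p)
    (ShortComplex.exact_kernel p) _ b u (hS.exact.lift_f _ _).symm c hb hu, hS.exact.lift_f _ _⟩

theorem isMLAR_X₁ (hS : S.ShortExact) (k₂ : TermKilled J S.X₂)
    (h₂ : IsMLAR S.X₂) (h₃ : IsARAdic J S.X₃) : IsMLAR S.X₁ := by
  haveI : Epi S.g := hS.epi_g
  obtain ⟨-, Y, u, hY, hu⟩ := h₃
  obtain ⟨B, b, p, -, -, -, hb, hK, -, c⟩ := exists_strict_over_adic S.g u h₂ k₂ hY hu
  obtain ⟨k, hk, -⟩ := exists_kernel_arIso hS b p u hb hu c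
  exact isMLAR_of_arIso hk (isMLAR_of_strict hK)

theorem arAdic_extension (hJ : J.FG ∨ HasCoproducts.{w} C) (hS : S.ShortExact) (k₂ : TermKilled J S.X₂)
    (h₁ : IsARAdic J S.X₁) (h₃ : IsARAdic J S.X₃) : IsARAdic J S.X₂ := by
  haveI : Epi S.g := hS.epi_g
  have h₂ : IsMLAR S.X₂ := isMLAR_extension hS (isMLAR_of_arAdic h₁) (isMLAR_of_arAdic h₃)
  obtain ⟨-, Y, u, hY, hu⟩ := h₃
  obtain ⟨B, b, p, hp, hB, kB, hb, hK, kK, c⟩ := exists_strict_over_adic S.g u h₂ k₂ hY hu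
  obtain ⟨k, hk, -⟩ := exists_kernel_arIso hS b p u hb hu c
  obtain ⟨r, -, hr⟩ := exists_fker_bound hK (arAdic_of_arIso_bwd hk kK h₁)
  refine arAdic_of_arIso_fwd hb (arAdic_of_fker_bound hJ hB kB r fun n => ?_) k₂
  rcases n with _ | l
  · rw [Nat.zero_sub, pow_zero, Ideal.one_eq_top]; exact subLE_top_ideal _
  obtain ⟨M, hM⟩ := exists_isSmulSub hJ (l + 1) (B.obj (op (l + 1)))
  obtain ⟨M', hM'⟩ := exists_isSmulSub hJ (l + 1) (Y.obj (op (l + 1)))
  show SubLEIdeal _ (kernelSubobject (tr B (Nat.le_succ l)))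
  have hdec : kernelSubobject (tr B (Nat.le_succ l)) ≤
      M ⊔ img ((kernel.ι p).app (op (l + 1))) (kernelSubobject (tr (kernel p) (Nat.le_succ l))) := by
    rw [le_iff_factors]
    intro T x hx
    rw [kernelSubobject_factors_iff] at hx
    have h4 : M'.Factors (x ≫ p.app (op (l + 1))) := Subobject.factors_of_le _
      ((hM'.subLE_iff _).mp (IsQuot.subLE_ker (hY.2 l (l + 1) (Nat.le_succ l))))
      ((kernelSubobject_factors_iff _ _).mpr (by rw [Category.assoc, ← tr_app, ← Category.assoc, hx, zero_comp]))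
    rw [← hM.img_of_epi hM' (p.app (op (l + 1))), ← factors_pre_iff, pre_img] at h4
    obtain ⟨T', π, hπ, z, q, hz, hq, e⟩ := (factors_sup_iff _).mp h4
    have hq' : q ≫ p.app (op (l + 1)) = 0 := (kernelSubobject_factors_iff _ _).mp hq
    obtain ⟨T'', π', hπ', y, hy⟩ :=
      (exact_app (S := ShortComplex.mk _ _ (kernel.condition p)) (ShortComplex.exact_kernel p) (l + 1)).exact_up_to_refinements q hq'
    have hy' : π' ≫ q = (show T'' ⟶ (kernel p).obj (op (l + 1)) from y) ≫ (kernel.ι p).app (op (l + 1)) := hy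
    refine factors_of_epi π (factors_of_epi π' ?_)
    rw [e, Preadditive.comp_add, hy']
    refine Subobject.factors_add _ _ (Subobject.factors_of_le _ le_sup_left (Subobject.factors_of_factors_right _ hz)) ?_
    refine Subobject.factors_of_le _ le_sup_right (factors_img _ ((kernelSubobject_factors_iff _ _).mpr ?_))
    have hz0 : z ≫ tr B (Nat.le_succ l) = 0 := (kernelSubobject_factors_iff _ _).mp (Subobject.factors_of_le _
      (le_kernelSubobject _ _ ((hM.homKilled_iff _).mp (homKilledBy_of_tgt (kB l) _))) hz)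
    rw [← cancel_mono ((kernel.ι p).app (op l)), zero_comp, Category.assoc, tr_app, ← Category.assoc, ← hy',
      Category.assoc, show q = π ≫ x - z by rw [e]; abel, Preadditive.sub_comp, Category.assoc, hx, comp_zero, hz0,
      sub_zero, comp_zero]
  refine subLE_of_le hdec (subLE_sup ?_ (subLE_img _ (hr (l + 1))))
  exact subLE_ideal_mono (Ideal.pow_le_pow_right (Nat.sub_le _ _)) ((hM.subLE_iff M).mpr le_rfl)

end Sequences

end GrothLib.ARSys
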