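import Groth.Agent.Lib.ARSys.Noeth
import Mathlib.CategoryTheory.ObjectProperty.FiniteProducts
import Mathlib.CategoryTheory.Preadditive.AdditiveFunctor
import Mathlib.CategoryTheory.Preadditive.Biproducts

/-!
The category of `J`-adic systems with Noetherian components is abelian and Noetherian.
-/

set_option linter.style.haveILetI false
set_option linter.unusedSectionVars false

universe w v u

open CategoryTheory CategoryTheory.Limits Opposite ZeroObject

namespace GrothLib.ARSys

open _root_.ARSys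

variable {C : Type u} [Category.{v} C] [Abelian C] {A : Type w} [CommRing A] [Linear A C] (J : Ideal A)

/-- The property of being adic with Noetherian components. -/
abbrev adN : ObjectProperty (PS C) := fun X => IsAdicNoeth J X

variable {J}

theorem arAdicNoeth_of_adicNoeth {X : PS C} (h : IsAdicNoeth J X) : IsARAdicNoeth J X :=
  ⟨arAdic_of_adic h.1, h.2⟩

theorem isIso_of_arIso {P Q : PS C} (u : P ⟶ Q) (hu : IsARIso u) (hP : IsAdic J P) (hQ : IsAdic J Q) :
    IsIso u := by
  obtain ⟨ψ, hψ, -⟩ := existsUnique_lift hu hQ hP.1 (𝟙 Q)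
  have hψ' : ψ ≫ u = 𝟙 Q := hψ
  refine ⟨ψ, hom_ext_of_arIso hu (isStrict_of_isAdic hP) ?_, hψ'⟩
  rw [Category.assoc, hψ', Category.comp_id, Category.id_comp]

theorem isStrict_of_isZero {X : PS C} (h : IsZero X) : IsStrict X := fun _ _ _ =>
  IsZero.epi ((Functor.isZero_iff _).mp h _) _

theorem adicNoeth_of_epi {X Y : PS C} (p : X ⟶ Y) [Epi p] (hK : IsStrict (kernel p)) (hX : IsAdicNoeth J X) :
    IsAdicNoeth J Y := by
  let T : ShortComplex (PS C) := ShortComplex.mk (kernel.ι p) p (kernel.condition p)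
  have hT : T.ShortExact :=
    { exact := ShortComplex.exact_kernel p
      mono_f := inferInstanceAs (Mono (kernel.ι p))
      epi_g := inferInstanceAs (Epi p) }
  refine ⟨adic_X₃_of_strict hT hK hX.1, fun n => ?_⟩
  haveI := hX.2 n
  exact noeth_of_epi (p.app (op n))

instance adN_closedUnderIso : (adN (C := C) J).IsClosedUnderIsomorphisms where
  of_iso e h := adicNoeth_of_epi e.hom (isStrict_of_isZero (isZero_kernel_of_mono e.hom)) h

theorem adN_zero {Z : PS C} (hZ : IsZero Z) : IsAdicNoeth J Z := by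
  have hz : ∀ n, IsZero (Z.obj (op n)) := fun n => (Functor.isZero_iff _).mp hZ _
  refine ⟨⟨fun n a _ => (hz n).eq_of_src _ _, fun n m h => ⟨fun a _ => (hz n).eq_of_src _ _, fun Y φ _ => ?_⟩⟩,
    fun n => isNoetherianObject_of_isZero (hz n)⟩
  exact ⟨0, (hz m).eq_of_src _ _, fun y _ => (hz n).eq_of_src _ _⟩

instance adN_containsZero : (adN (C := C) J).ContainsZero where
  exists_zero := ⟨0, isZero_zero _, adN_zero (isZero_zero _)⟩

theorem adN_biprod (hJ : J.FG) {X Y : PS C} (hX : IsAdicNoeth J X) (hY : IsAdicNoeth J Y) :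
    IsAdicNoeth J (X ⊞ Y) := by
  let T : ShortComplex (PS C) := ShortComplex.mk (biprod.inl : X ⟶ X ⊞ Y) biprod.snd biprod.inl_snd
  have hT : T.ShortExact := (ShortComplex.Splitting.ofHasBinaryBiproduct X Y).shortExact
  have hk : TermKilled J (X ⊞ Y) := fun n a ha => by
    have e : (biprod.fst ≫ biprod.inl + biprod.snd ≫ biprod.inr : X ⊞ Y ⟶ X ⊞ Y).app (op n) = 𝟙 _ := by
      rw [biprod.total]; rfl
    rw [← e, NatTrans.app_add, smul_add, NatTrans.comp_app, NatTrans.comp_app, ← Linear.comp_smul,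
      ← Linear.comp_smul, homKilledBy_of_src (hX.1.1 n) _ a ha, homKilledBy_of_src (hY.1.1 n) _ a ha]
    simp
  refine ⟨adic_extension (Or.inl hJ) hT hk hX.1 hY.1, fun n => ?_⟩
  haveI : IsNoetherianObject (T.map ((evaluation ℕᵒᵖ C).obj (op n))).X₁ := hX.2 n
  haveI : IsNoetherianObject (T.map ((evaluation ℕᵒᵖ C).obj (op n))).X₃ := hY.2 n
  exact noeth_of_shortExact (shortExact_app hT n)

theorem adN_binaryProducts (hJ : J.FG) : (adN (C := C) J).IsClosedUnderBinaryProducts where
  limitsOfShape_le := by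
    rintro X ⟨p⟩
    exact (adN J).prop_of_iso
      ((IsLimit.conePointUniqueUpToIso p.isLimit (limit.isLimit p.diag)).trans
        ((HasLimit.isoOfNatIso (diagramIsoPair p.diag)).trans (biprod.isoProd _ _).symm)).symm
      (adN_biprod hJ (p.prop_diag_obj ⟨WalkingPair.left⟩) (p.prop_diag_obj ⟨WalkingPair.right⟩))

variable {X Y : ObjectProperty.FullSubcategory (adN (C := C) J)}

theorem cokernel_adN (f : X ⟶ Y) : IsAdicNoeth J (cokernel f.hom) := by
  let T : ShortComplex (PS C) :=
    ShortComplex.mk (Abelian.image.ι f.hom) (cokernel.π f.hom) (kernel.condition _)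
  exact adicNoeth_of_epi (cokernel.π f.hom)
    (isStrict_of_epi (Abelian.factorThruImage f.hom) (isStrict_of_isAdic X.property.1)) Y.property

theorem exists_adic_kernel (hJ : J.FG) (f : X ⟶ Y) :
    ∃ (Z : ObjectProperty.FullSubcategory (adN (C := C) J)) (ι : Z ⟶ X) (z : Z.obj ⟶ kernel f.hom),
      IsARIso z ∧ z ≫ kernel.ι f.hom = ι.hom ∧ ι ≫ f = 0 ∧
      ∀ {W : ObjectProperty.FullSubcategory (adN (C := C) J)} (g : W ⟶ X), g ≫ f = 0 → ∃! l : W ⟶ Z, l ≫ ι = g := by
  obtain ⟨⟨hk, Z, z, hZ, hz⟩, hn⟩ :=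
    (arAdicNoeth_ker_coker hJ f.hom (arAdicNoeth_of_adicNoeth X.property) (arAdicNoeth_of_adicNoeth Y.property)).1
  have hZ' : IsAdicNoeth J Z := ⟨hZ, fun n => noeth_of_arIso hz (isStrict_of_isAdic hZ) hn n⟩
  refine ⟨⟨Z, hZ'⟩, ObjectProperty.homMk (z ≫ kernel.ι f.hom), z, hz, rfl, ?_, fun {W} g hg => ?_⟩
  · apply ObjectProperty.hom_ext
    show (z ≫ kernel.ι f.hom) ≫ f.hom = 0
    rw [Category.assoc, kernel.condition, comp_zero]
  · have hg' : g.hom ≫ f.hom = 0 := congrArg (fun t => t.hom) hg
    obtain ⟨l, hl, -⟩ := existsUnique_lift hz W.property.1 hZ.1 (kernel.lift _ g.hom hg')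
    have hl' : l ≫ z = kernel.lift _ g.hom hg' := hl
    refine ⟨ObjectProperty.homMk l, ?_, fun l' h' => ?_⟩
    · apply ObjectProperty.hom_ext
      show l ≫ z ≫ kernel.ι f.hom = g.hom
      rw [← Category.assoc, hl', kernel.lift_ι]
    · apply ObjectProperty.hom_ext
      show l'.hom = l
      refine hom_ext_of_arIso hz (isStrict_of_isAdic W.property.1) ?_
      rw [← cancel_mono (kernel.ι f.hom), Category.assoc, Category.assoc]
      have h'' : l'.hom ≫ z ≫ kernel.ι f.hom = g.hom := congrArg (fun t => t.hom) h'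
      rw [h'', ← Category.assoc, hl', kernel.lift_ι]

theorem hasKernels (hJ : J.FG) : HasKernels (ObjectProperty.FullSubcategory (adN (C := C) J)) := by
  refine ⟨fun {X Y} f => ?_⟩
  obtain ⟨Z, ι, -, -, -, hι, hu⟩ := exists_adic_kernel hJ f
  exact ⟨⟨⟨KernelFork.ofι ι hι, KernelFork.IsLimit.ofι ι hι (fun g hg => (hu g hg).exists.choose)
    (fun g hg => (hu g hg).exists.choose_spec)
    (fun g hg m hm => (hu g hg).unique hm (hu g hg).exists.choose_spec)⟩⟩⟩

theorem hasCokernels : HasCokernels (ObjectProperty.FullSubcategory (adN (C := C) J)) := by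
  refine ⟨fun {X Y} f => ?_⟩
  let Q : ObjectProperty.FullSubcategory (adN (C := C) J) := ⟨cokernel f.hom, cokernel_adN f⟩
  let π : Y ⟶ Q := ObjectProperty.homMk (cokernel.π f.hom)
  have hπ : f ≫ π = 0 := ObjectProperty.hom_ext _ (cokernel.condition f.hom)
  exact ⟨⟨⟨CokernelCofork.ofπ π hπ, CokernelCofork.IsColimit.ofπ π hπ
    (fun g hg => ObjectProperty.homMk (cokernel.desc f.hom g.hom (congrArg (fun t => t.hom) hg)))
    (fun g hg => ObjectProperty.hom_ext _ (cokernel.π_desc f.hom g.hom _))
    (fun g hg m hm => ObjectProperty.hom_ext _ (by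
      show m.hom = cokernel.desc _ g.hom _
      rw [← cancel_epi (cokernel.π f.hom), cokernel.π_desc]
      exact congrArg (fun t => t.hom) hm))⟩⟩⟩

theorem null_kernel_of_mono (hJ : J.FG) (f : X ⟶ Y) [Mono f] : IsARNull (kernel f.hom) := by
  obtain ⟨Z, ι, z, hz, hzι, hι, -⟩ := exists_adic_kernel hJ f
  have h0 : ι = 0 := by rw [← cancel_mono f, hι, zero_comp]
  have : z = 0 := by
    rw [← cancel_mono (kernel.ι f.hom), hzι, h0, zero_comp]
    rfl
  subst this
  exact null_of_mono (cokernel.π (0 : Z.obj ⟶ kernel f.hom)) hz.2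

theorem arIso_factorThruImage {P Q : PS C} (g : P ⟶ Q) (h : IsARNull (kernel g)) :
    IsARIso (Abelian.factorThruImage g) := by
  refine arIso_of_epi _ ?_
  have h0 : kernel.ι (Abelian.factorThruImage g) ≫ g = 0 := by
    conv_lhs => arg 2; rw [← Abelian.image.fac g]
    exact (Category.assoc _ _ _).symm.trans
      ((congrArg (· ≫ Abelian.image.ι g) (kernel.condition _)).trans zero_comp)
  haveI : Mono (kernel.lift g _ h0) := mono_of_mono_fac (kernel.lift_ι g _ h0)
  exact null_of_mono (kernel.lift g _ h0) h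

theorem normalMono (hJ : J.FG) (f : X ⟶ Y) [Mono f] : Nonempty (NormalMono f) := by
  let Q : ObjectProperty.FullSubcategory (adN (C := C) J) := ⟨cokernel f.hom, cokernel_adN f⟩
  let π : Y ⟶ Q := ObjectProperty.homMk (cokernel.π f.hom)
  have hπ : f ≫ π = 0 := ObjectProperty.hom_ext _ (cokernel.condition f.hom)
  have he := arIso_factorThruImage f.hom (null_kernel_of_mono hJ f)
  have key : ∀ {W : ObjectProperty.FullSubcategory (adN (C := C) J)} (g : W ⟶ Y), g ≫ π = 0 →
      ∃ l : W ⟶ X, l ≫ f = g := by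
    intro W g hg
    have hg' : g.hom ≫ cokernel.π f.hom = 0 := congrArg (fun t => t.hom) hg
    obtain ⟨l, hl, -⟩ := existsUnique_lift he W.property.1 X.property.1.1 (kernel.lift _ g.hom hg')
    refine ⟨ObjectProperty.homMk l, ObjectProperty.hom_ext _ ?_⟩
    show l ≫ f.hom = g.hom
    conv_lhs => rw [← Abelian.image.fac f.hom]
    exact ((Category.assoc _ _ _).symm.trans (congrArg (· ≫ Abelian.image.ι f.hom) hl)).trans
      (kernel.lift_ι _ _ _)
  exact ⟨{ Z := Q, g := π, w := hπ
           isLimit := KernelFork.IsLimit.ofι f hπ (fun g hg => (key g hg).choose)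
             (fun g hg => (key g hg).choose_spec)
             (fun g hg m hm => by rw [← cancel_mono f, hm, (key g hg).choose_spec]) }⟩

theorem epi_hom_of_epi (f : X ⟶ Y) [Epi f] : Epi f.hom := by
  let Q : ObjectProperty.FullSubcategory (adN (C := C) J) := ⟨cokernel f.hom, cokernel_adN f⟩
  let π : Y ⟶ Q := ObjectProperty.homMk (cokernel.π f.hom)
  have : π = 0 := by
    rw [← cancel_epi f, comp_zero]; exact ObjectProperty.hom_ext _ (cokernel.condition f.hom)
  exact Abelian.epi_of_cokernel_π_eq_zero _ (congrArg (fun t => t.hom) this)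

theorem normalEpi (hJ : J.FG) (f : X ⟶ Y) [Epi f] : Nonempty (NormalEpi f) := by
  haveI := epi_hom_of_epi f
  obtain ⟨Z, ι, z, hz, hzι, hι, -⟩ := exists_adic_kernel hJ f
  let S : ShortComplex (PS C) := ShortComplex.mk (kernel.ι f.hom) f.hom (kernel.condition f.hom)
  have hS : S.ShortExact :=
    { exact := ShortComplex.exact_kernel f.hom
      mono_f := inferInstanceAs (Mono (kernel.ι f.hom))
      epi_g := inferInstanceAs (Epi f.hom) }
  have hι' : ι.hom ≫ f.hom = 0 := congrArg (fun t => t.hom) hι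
  have hw : IsARIso (cokernel.desc ι.hom f.hom hι') :=
    arIso_cokernel_side hS ι.hom (cokernel.π ι.hom) (cokernel.condition ι.hom) z (𝟙 X.obj) _
      (by simp [S, hzι]) (by simp [S]) hz (arIso_of_isIso _)
  haveI := isIso_of_arIso _ hw (cokernel_adN ι).1 Y.property.1
  have key : ∀ {W : ObjectProperty.FullSubcategory (adN (C := C) J)} (g : X ⟶ W), ι ≫ g = 0 →
      ∃ l : Y ⟶ W, f ≫ l = g := by
    intro W g hg
    have hg' : ι.hom ≫ g.hom = 0 := congrArg (fun t => t.hom) hg
    refine ⟨ObjectProperty.homMk (inv (cokernel.desc ι.hom f.hom hι') ≫ cokernel.desc ι.hom g.hom hg'),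
      ObjectProperty.hom_ext _ ?_⟩
    show f.hom ≫ inv (cokernel.desc ι.hom f.hom hι') ≫ cokernel.desc ι.hom g.hom _ = g.hom
    refine (congrArg (fun t => t ≫ inv (cokernel.desc ι.hom f.hom hι') ≫ cokernel.desc ι.hom g.hom hg')
      (cokernel.π_desc ι.hom f.hom hι').symm).trans ?_
    rw [Category.assoc, IsIso.hom_inv_id_assoc, cokernel.π_desc]
  exact ⟨{ W := Z, g := ι, w := hι
           isColimit := CokernelCofork.IsColimit.ofπ f hι (fun g hg => (key g hg).choose)
             (fun g hg => (key g hg).choose_spec)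
             (fun g hg m hm => by rw [← cancel_epi f, hm, (key g hg).choose_spec]) }⟩

theorem adN_abelian (hJ : J.FG) :
    Nonempty (Abelian (ObjectProperty.FullSubcategory (adN (C := C) J))) := by
  haveI := adN_binaryProducts (C := C) hJ
  haveI : (adN (C := C) J).IsClosedUnderFiniteProducts := ObjectProperty.IsClosedUnderFiniteProducts.mk'
  haveI := hasKernels (C := C) hJ
  haveI := hasCokernels (C := C) (J := J)
  exact ⟨{ normalMonoOfMono := fun f _ => normalMono hJ f
           normalEpiOfEpi := fun f _ => normalEpi hJ f }⟩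

theorem adN_noetherian (hJ : J.FG) (Y : ObjectProperty.FullSubcategory (adN (C := C) J)) :
    IsNoetherianObject Y := by
  rw [isNoetherianObject_iff_monotone_chain_condition]
  intro F
  let G : ℕ → Subobject Y.obj := fun k => imageSubobject (F k).arrow.hom
  have hG : Monotone G := fun i j h => by
    show imageSubobject _ ≤ imageSubobject _
    rw [← Subobject.ofLE_arrow (F.monotone h)]
    exact imageSubobject_comp_le (Subobject.ofLE _ _ (F.monotone h)).hom (F j).arrow.hom
  obtain ⟨k₀, hk₀⟩ := strict_subobjects_stationary hJ Y.property.1 (Y.property.2 0) ⟨G, hG⟩ fun k =>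
    isStrict_of_epi (factorThruImageSubobject (F k).arrow.hom) (isStrict_of_isAdic (F k : ObjectProperty.FullSubcategory (adN (C := C) J)).property.1)
  refine ⟨k₀, fun m hm => ?_⟩
  let f := Subobject.ofLE _ _ (F.monotone hm)
  have hf : f ≫ (F m).arrow = (F k₀).arrow := Subobject.ofLE_arrow _
  have himg : G m = G k₀ := hk₀ m hm
  have hi : ∀ k, IsARIso (factorThruImageSubobject (F k).arrow.hom) := fun k => by
    refine arIso_of_epi _ ?_
    have h0 : kernel.ι (factorThruImageSubobject (F k).arrow.hom) ≫ (F k).arrow.hom = 0 := by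
      conv_lhs => arg 2; rw [← imageSubobject_arrow_comp (F k).arrow.hom]
      rw [kernel.condition_assoc, zero_comp]
    haveI : Mono (kernel.lift _ _ h0) := mono_of_mono_fac (kernel.lift_ι _ _ h0)
    exact null_of_mono (kernel.lift _ _ h0) (null_kernel_of_mono hJ (F k).arrow)
  have hf' : IsARIso f.hom := by
    refine arIso_of_comp_right f.hom (factorThruImageSubobject (F m).arrow.hom) (hi m) ?_
    have hf2 : f.hom ≫ (F m).arrow.hom = (F k₀).arrow.hom := congrArg (fun t => t.hom) hf
    have e : f.hom ≫ factorThruImageSubobject (F m).arrow.hom =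
        factorThruImageSubobject (F k₀).arrow.hom ≫ Subobject.ofLE _ _ himg.ge := by
      rw [← cancel_mono (imageSubobject (F m).arrow.hom).arrow, Category.assoc, imageSubobject_arrow_comp, hf2,
        Category.assoc, Subobject.ofLE_arrow, imageSubobject_arrow_comp]
    rw [e]
    haveI : IsIso (Subobject.ofLE _ _ himg.ge) :=
      ⟨Subobject.ofLE _ _ himg.le, by simp, by simp⟩
    exact arIso_comp (hi k₀) (arIso_of_isIso _)
  haveI : IsIso f.hom := isIso_of_arIso _ hf'
    (F k₀ : ObjectProperty.FullSubcategory (adN (C := C) J)).property.1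
    (F m : ObjectProperty.FullSubcategory (adN (C := C) J)).property.1
  haveI : IsIso ((adN (C := C) J).ι.map f) := (inferInstance : IsIso f.hom)
  haveI : IsIso f := (ObjectProperty.fullyFaithfulι (adN (C := C) J)).isIso_of_isIso_map f
  exact Subobject.eq_of_comm (asIso f) hf

end GrothLib.ARSys
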