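import Mathlib.CategoryTheory.Abelian.Refinements
import Mathlib.CategoryTheory.Abelian.FunctorCategory
import Mathlib.CategoryTheory.Subobject.Lattice
import Mathlib.CategoryTheory.Subobject.Limits
import Mathlib.CategoryTheory.Subobject.NoetherianObject
import Mathlib.CategoryTheory.Subobject.ArtinianObject
import Mathlib.Order.ModularLattice

/-!
Element calculus for subobjects in an abelian category: images, preimages, binary suprema,
the modular law, and permanence of Noetherian / Artinian objects.
-/

universe v u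

open CategoryTheory CategoryTheory.Limits

namespace GrothLib.ARSys

variable {C : Type u} [Category.{v} C] [Abelian C] {X Y Z : C}

/-- Inclusion of subobjects, tested on generalized elements. -/
theorem le_iff_factors {S T : Subobject X} :
    S ≤ T ↔ ∀ ⦃A : C⦄ (x : A ⟶ X), S.Factors x → T.Factors x :=
  ⟨fun h _ x hx => Subobject.factors_of_le x h hx,
    fun h => Subobject.le_of_factors (h _ (Subobject.factors_self S))⟩

/-- Factorization through a subobject is insensitive to refinements. -/
theorem factors_of_epi {A B : C} (π : A ⟶ B) [Epi π] {S : Subobject X} {x : B ⟶ X}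
    (h : S.Factors (π ≫ x)) : S.Factors x := by
  revert h
  refine Subobject.ind (fun S => S.Factors (π ≫ x) → S.Factors x) ?_ S
  intro P f _ h
  rw [Subobject.mk_factors_iff] at h ⊢
  obtain ⟨g', hg⟩ := h
  obtain ⟨g, rfl⟩ : ∃ g : A ⟶ P, g = g' := ⟨g', rfl⟩
  have h0 : x ≫ cokernel.π f = 0 := by
    have hg' : g ≫ f = π ≫ x := hg
    rw [← cancel_epi π, comp_zero, ← Category.assoc, ← hg', Category.assoc, cokernel.condition, comp_zero]
  have hex : (ShortComplex.mk f (cokernel.π f) (cokernel.condition f)).Exact :=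
    ShortComplex.exact_of_g_is_cokernel _ (cokernelIsCokernel f)
  haveI : Mono (ShortComplex.mk f (cokernel.π f) (cokernel.condition f)).f := by
    dsimp; infer_instance
  exact ⟨hex.lift x h0, hex.lift_f x h0⟩

theorem factors_imageSubobject_iff (f : X ⟶ Y) {A : C} (y : A ⟶ Y) :
    (imageSubobject f).Factors y ↔
      ∃ (A' : C) (π : A' ⟶ A) (_ : Epi π) (x : A' ⟶ X), π ≫ y = x ≫ f := by
  constructor
  · intro h
    obtain ⟨A', π, hπ, x, hx⟩ := surjective_up_to_refinements_of_epi (factorThruImageSubobject f)
      ((imageSubobject f).factorThru y h)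
    refine ⟨A', π, hπ, x, ?_⟩
    have := congrArg (· ≫ (imageSubobject f).arrow) hx
    simpa using this
  · rintro ⟨A', π, hπ, x, hx⟩
    refine factors_of_epi π ?_
    rw [hx]
    exact imageSubobject_factors_comp_self f x

/-- The image of a subobject under a morphism. -/
noncomputable def img (f : X ⟶ Y) (S : Subobject X) : Subobject Y := imageSubobject (S.arrow ≫ f)

/-- The preimage of a subobject under a morphism. -/
noncomputable def pre (f : X ⟶ Y) (T : Subobject Y) : Subobject X := (Subobject.pullback f).obj T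

theorem factors_pre_iff (f : X ⟶ Y) (T : Subobject Y) {A : C} (x : A ⟶ X) :
    (pre f T).Factors x ↔ T.Factors (x ≫ f) :=
  pullback_factors_iff f T x

theorem factors_img_iff (f : X ⟶ Y) (S : Subobject X) {A : C} (y : A ⟶ Y) :
    (img f S).Factors y ↔
      ∃ (A' : C) (π : A' ⟶ A) (_ : Epi π) (x : A' ⟶ X), S.Factors x ∧ π ≫ y = x ≫ f := by
  rw [img, factors_imageSubobject_iff]
  constructor
  · rintro ⟨A', π, hπ, x, hx⟩
    exact ⟨A', π, hπ, x ≫ S.arrow, Subobject.factors_comp_arrow x, by rw [hx, Category.assoc]⟩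
  · rintro ⟨A', π, hπ, x, hxS, hx⟩
    exact ⟨A', π, hπ, S.factorThru x hxS, by rw [← Category.assoc, Subobject.factorThru_arrow, hx]⟩

theorem factors_img (f : X ⟶ Y) {S : Subobject X} {A : C} {x : A ⟶ X} (h : S.Factors x) :
    (img f S).Factors (x ≫ f) :=
  (factors_img_iff f S _).mpr ⟨A, 𝟙 A, inferInstance, x, h, Category.id_comp _⟩

theorem img_le_iff (f : X ⟶ Y) (S : Subobject X) (T : Subobject Y) : img f S ≤ T ↔ S ≤ pre f T := by
  constructor
  · intro h
    rw [le_iff_factors]
    intro A x hx
    exact (factors_pre_iff f T x).mpr (Subobject.factors_of_le _ h (factors_img f hx))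
  · intro h
    rw [le_iff_factors]
    intro A y hy
    obtain ⟨A', π, hπ, x, hxS, hx⟩ := (factors_img_iff f S y).mp hy
    refine factors_of_epi π ?_
    rw [hx]
    exact (factors_pre_iff f T x).mp (Subobject.factors_of_le _ h hxS)

theorem gc_img_pre (f : X ⟶ Y) : GaloisConnection (img f) (pre f) := img_le_iff f

theorem img_mono (f : X ⟶ Y) : Monotone (img f) := (gc_img_pre f).monotone_l
theorem pre_mono (f : X ⟶ Y) : Monotone (pre f) := (gc_img_pre f).monotone_u

theorem img_img (f : X ⟶ Y) (g : Y ⟶ Z) (S : Subobject X) : img g (img f S) = img (f ≫ g) S := by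
  apply le_antisymm
  · rw [img_le_iff, img_le_iff, le_iff_factors]
    intro A x hx
    rw [factors_pre_iff, factors_pre_iff, Category.assoc]
    exact factors_img _ hx
  · rw [img_le_iff, le_iff_factors]
    intro A x hx
    rw [factors_pre_iff, ← Category.assoc]
    exact factors_img _ (factors_img _ hx)

theorem pre_pre (f : X ⟶ Y) (g : Y ⟶ Z) (T : Subobject Z) : pre f (pre g T) = pre (f ≫ g) T := by
  apply le_antisymm <;> rw [le_iff_factors] <;> intro A x hx <;>
    simp only [factors_pre_iff, Category.assoc] at hx ⊢ <;> exact hx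

theorem img_top (f : X ⟶ Y) : img f ⊤ = imageSubobject f := by
  apply le_antisymm
  · rw [img_le_iff, le_iff_factors]
    intro A x _
    rw [factors_pre_iff]
    exact imageSubobject_factors_comp_self f x
  · rw [le_iff_factors]
    intro A y hy
    obtain ⟨A', π, hπ, x, hx⟩ := (factors_imageSubobject_iff f y).mp hy
    exact (factors_img_iff f ⊤ y).mpr ⟨A', π, hπ, x, Subobject.top_factors x, hx⟩

theorem img_top_of_epi (f : X ⟶ Y) [Epi f] : img f ⊤ = ⊤ := by
  rw [eq_top_iff, le_iff_factors]
  intro A y _
  obtain ⟨A', π, hπ, x, hx⟩ := surjective_up_to_refinements_of_epi f y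
  exact (factors_img_iff f ⊤ y).mpr ⟨A', π, hπ, x, Subobject.top_factors x, hx⟩

theorem img_id (S : Subobject X) : img (𝟙 X) S = S := by
  simp [img, imageSubobject_mono]

theorem img_bot (f : X ⟶ Y) : img f ⊥ = ⊥ := (gc_img_pre f).l_bot

theorem img_zero (S : Subobject X) : img (0 : X ⟶ Y) S = ⊥ := by
  simp [img]

theorem arrow_eq_zero_iff (S : Subobject X) : S.arrow = 0 ↔ S = ⊥ := by
  constructor
  · intro h
    rw [eq_bot_iff]
    exact Subobject.le_of_factors (by rw [h]; exact Subobject.factors_zero)
  · rintro rfl; exact Subobject.bot_arrow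

theorem img_eq_bot_iff (f : X ⟶ Y) (S : Subobject X) : img f S = ⊥ ↔ S.arrow ≫ f = 0 := by
  constructor
  · intro h
    have := factors_img f (Subobject.factors_self S)
    rwa [h, Subobject.bot_factors_iff_zero] at this
  · intro h; simp [img, h]

theorem kernelSubobject_eq_pre (f : X ⟶ Y) : kernelSubobject f = pre f ⊥ := by
  apply le_antisymm <;> rw [le_iff_factors] <;> intro A x hx <;>
    simp only [factors_pre_iff, Subobject.bot_factors_iff_zero, kernelSubobject_factors_iff] at hx ⊢ <;> exact hx

theorem pre_top (f : X ⟶ Y) : pre f ⊤ = ⊤ := (gc_img_pre f).u_top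

theorem pre_id (S : Subobject X) : pre (𝟙 X) S = S := Subobject.pullback_id S

theorem ker_le_pre (f : X ⟶ Y) (T : Subobject Y) : kernelSubobject f ≤ pre f T := by
  rw [kernelSubobject_eq_pre]; exact pre_mono f bot_le

/-- A generalized element of a binary supremum is, locally, a sum. -/
theorem factors_sup_iff {S T : Subobject X} {A : C} (y : A ⟶ X) :
    (S ⊔ T).Factors y ↔ ∃ (A' : C) (π : A' ⟶ A) (_ : Epi π) (x₁ x₂ : A' ⟶ X),
      S.Factors x₁ ∧ T.Factors x₂ ∧ π ≫ y = x₁ + x₂ := by
  constructor
  · intro h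
    have hle : S ⊔ T ≤ imageSubobject (biprod.desc S.arrow T.arrow) := by
      refine sup_le ?_ ?_
      · exact Subobject.le_of_factors ((factors_imageSubobject_iff _ _).mpr
          ⟨_, 𝟙 _, inferInstance, biprod.inl, by simp⟩)
      · exact Subobject.le_of_factors ((factors_imageSubobject_iff _ _).mpr
          ⟨_, 𝟙 _, inferInstance, biprod.inr, by simp⟩)
    obtain ⟨A', π, hπ, x, hx⟩ := (factors_imageSubobject_iff _ _).mp (Subobject.factors_of_le _ hle h)
    refine ⟨A', π, hπ, (x ≫ biprod.fst) ≫ S.arrow, (x ≫ biprod.snd) ≫ T.arrow,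
      Subobject.factors_comp_arrow _, Subobject.factors_comp_arrow _, ?_⟩
    rw [hx, biprod.desc_eq, Preadditive.comp_add]
    simp
  · rintro ⟨A', π, hπ, x₁, x₂, h₁, h₂, e⟩
    refine factors_of_epi π ?_
    rw [e]
    exact Subobject.factors_add _ _ (Subobject.factors_of_le _ le_sup_left h₁)
      (Subobject.factors_of_le _ le_sup_right h₂)

theorem factors_sub {S : Subobject X} {A : C} {x y : A ⟶ X} (hx : S.Factors x) (hy : S.Factors y) :
    S.Factors (x - y) :=
  (Subobject.factors_iff _ _).mpr ⟨S.factorThru x hx - S.factorThru y hy, by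
    change (S.factorThru x hx - S.factorThru y hy) ≫ S.arrow = x - y
    simp⟩

theorem factors_inf_iff {S T : Subobject X} {A : C} (y : A ⟶ X) :
    (S ⊓ T).Factors y ↔ S.Factors y ∧ T.Factors y := Subobject.inf_factors y

instance isModularLattice_subobject : IsModularLattice (Subobject X) := ⟨fun {x} y {z} hxz => by
  rw [le_iff_factors]
  intro A a ha
  obtain ⟨h1, h2⟩ := (factors_inf_iff a).mp ha
  obtain ⟨A', π, hπ, p, q, hp, hq, e⟩ := (factors_sup_iff a).mp h1
  refine (factors_sup_iff a).mpr ⟨A', π, hπ, p, q, hp, (factors_inf_iff q).mpr ⟨hq, ?_⟩, e⟩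
  have : q = π ≫ a - p := by rw [e]; abel
  rw [this]
  exact factors_sub (Subobject.factors_of_factors_right π h2) (Subobject.factors_of_le p hxz hp)⟩

theorem img_pre (f : X ⟶ Y) (T : Subobject Y) : img f (pre f T) = T ⊓ imageSubobject f := by
  apply le_antisymm
  · exact le_inf ((gc_img_pre f).l_u_le T) (img_top f ▸ img_mono f le_top)
  · rw [le_iff_factors]
    intro A y hy
    obtain ⟨hT, hf⟩ := (factors_inf_iff y).mp hy
    obtain ⟨A', π, hπ, x, hx⟩ := (factors_imageSubobject_iff f y).mp hf
    refine (factors_img_iff _ _ _).mpr ⟨A', π, hπ, x, (factors_pre_iff f T x).mpr ?_, hx⟩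
    rw [← hx]; exact Subobject.factors_of_factors_right π hT

theorem img_pre_of_epi (f : X ⟶ Y) [Epi f] (T : Subobject Y) : img f (pre f T) = T := by
  rw [img_pre, ← img_top, img_top_of_epi, inf_top_eq]

theorem pre_img (f : X ⟶ Y) (S : Subobject X) : pre f (img f S) = S ⊔ kernelSubobject f := by
  apply le_antisymm
  · rw [le_iff_factors]
    intro A x hx
    rw [factors_pre_iff, factors_img_iff] at hx
    obtain ⟨A', π, hπ, s, hs, e⟩ := hx
    refine (factors_sup_iff x).mpr ⟨A', π, hπ, s, π ≫ x - s, hs, ?_, by abel⟩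
    rw [kernelSubobject_factors_iff, Preadditive.sub_comp, Category.assoc, e, sub_self]
  · exact sup_le ((gc_img_pre f).le_u_l S) (ker_le_pre f _)

theorem img_sup (f : X ⟶ Y) (S T : Subobject X) : img f (S ⊔ T) = img f S ⊔ img f T :=
  (gc_img_pre f).l_sup

theorem pre_inf (f : X ⟶ Y) (S T : Subobject Y) : pre f (S ⊓ T) = pre f S ⊓ pre f T :=
  (gc_img_pre f).u_inf

theorem pre_injective_of_epi (f : X ⟶ Y) [Epi f] : Function.Injective (pre f) :=
  Function.LeftInverse.injective (img_pre_of_epi f)

/-- If two nested subobjects have equal trace on the kernel and equal image, they are equal. -/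
theorem eq_of_inf_ker_eq_of_img_eq (f : X ⟶ Y) {S T : Subobject X} (h : S ≤ T)
    (h1 : S ⊓ kernelSubobject f = T ⊓ kernelSubobject f) (h2 : img f S = img f T) : S = T := by
  refine eq_of_le_of_inf_le_of_sup_le h (z := kernelSubobject f) h1.ge ?_
  rw [← pre_img f T, ← h2, pre_img f S]

section Noeth

theorem noeth_of_epi (f : X ⟶ Y) [Epi f] [IsNoetherianObject X] : IsNoetherianObject Y := by
  rw [isNoetherianObject_iff_monotone_chain_condition]
  intro g
  obtain ⟨n, hn⟩ := monotone_chain_condition_of_isNoetherianObject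
    ⟨fun k => pre f (g k), fun a b hab => pre_mono f (g.2 hab)⟩
  exact ⟨n, fun m hm => pre_injective_of_epi f (hn m hm)⟩

theorem art_of_epi (f : X ⟶ Y) [Epi f] [IsArtinianObject X] : IsArtinianObject Y := by
  rw [isArtinianObject_iff_antitone_chain_condition]
  intro g
  obtain ⟨n, hn⟩ := antitone_chain_condition_of_isArtinianObject (X := X)
    ⟨fun k => OrderDual.toDual (pre f (OrderDual.ofDual (g k))), fun a b hab => pre_mono f (g.2 hab)⟩
  exact ⟨n, fun m hm => pre_injective_of_epi f (hn m hm)⟩

theorem noeth_of_extension (g : Y ⟶ Z) (hK : IsNoetherianObject (kernel g)) [IsNoetherianObject Z] :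
    IsNoetherianObject Y := by
  rw [isNoetherianObject_iff_monotone_chain_condition]
  intro F
  haveI : IsNoetherianObject (kernelSubobject g : C) :=
    isNoetherianObject_of_mono (kernelSubobjectIso g).hom
  obtain ⟨n, hn⟩ := monotone_chain_condition_of_isNoetherianObject
    ⟨fun k => img g (F k), fun a b hab => img_mono g (F.2 hab)⟩
  obtain ⟨m, hm⟩ := monotone_chain_condition_of_isNoetherianObject
    ⟨fun k => pre (kernelSubobject g).arrow (F k), fun a b hab => pre_mono _ (F.2 hab)⟩
  refine ⟨max n m, fun k hk => eq_of_inf_ker_eq_of_img_eq g (F.2 hk) ?_ ?_⟩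
  · have e := (hm (max n m) (le_max_right _ _)).symm.trans (hm k (le_of_max_le_right hk))
    have := congrArg (img (kernelSubobject g).arrow) e
    simp only [OrderHom.coe_mk, img_pre] at this
    simpa [imageSubobject_mono, Subobject.mk_arrow] using this
  · exact (hn (max n m) (le_max_left _ _)).symm.trans (hn k (le_of_max_le_left hk))

theorem art_of_extension (g : Y ⟶ Z) (hK : IsArtinianObject (kernel g)) [IsArtinianObject Z] :
    IsArtinianObject Y := by
  rw [isArtinianObject_iff_antitone_chain_condition]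
  intro F
  haveI : IsArtinianObject (kernelSubobject g : C) :=
    isArtinianObject_of_mono (kernelSubobjectIso g).hom
  obtain ⟨n, hn⟩ := antitone_chain_condition_of_isArtinianObject (X := Z)
    ⟨fun k => OrderDual.toDual (img g (OrderDual.ofDual (F k))), fun a b hab => img_mono g (F.2 hab)⟩
  obtain ⟨m, hm⟩ := antitone_chain_condition_of_isArtinianObject (X := (kernelSubobject g : C))
    ⟨fun k => OrderDual.toDual (pre (kernelSubobject g).arrow (OrderDual.ofDual (F k))),
      fun a b hab => pre_mono _ (F.2 hab)⟩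
  refine ⟨max n m, fun k hk => (eq_of_inf_ker_eq_of_img_eq (S := OrderDual.ofDual (F k)) (T := OrderDual.ofDual (F (max n m))) g (F.2 hk) ?_ ?_).symm⟩
  · have e := (hm k (le_of_max_le_right hk)).symm.trans (hm (max n m) (le_max_right _ _))
    have := congrArg (fun s => img (kernelSubobject g).arrow (OrderDual.ofDual s)) e
    simp only [OrderHom.coe_mk, OrderDual.ofDual_toDual, img_pre] at this
    simpa [imageSubobject_mono, Subobject.mk_arrow] using this
  · exact congrArg OrderDual.ofDual
      ((hn k (le_of_max_le_left hk)).symm.trans (hn (max n m) (le_max_left _ _)))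

theorem noeth_of_shortExact {S : ShortComplex C} (hS : S.ShortExact) [IsNoetherianObject S.X₁]
    [IsNoetherianObject S.X₃] : IsNoetherianObject S.X₂ := by
  haveI := hS.mono_f
  have e := IsLimit.conePointUniqueUpToIso hS.fIsKernel (kernelIsKernel S.g)
  exact noeth_of_extension S.g (isNoetherianObject_of_mono (X := kernel S.g) (Y := S.X₁) e.inv)

theorem art_of_shortExact {S : ShortComplex C} (hS : S.ShortExact) [IsArtinianObject S.X₁]
    [IsArtinianObject S.X₃] : IsArtinianObject S.X₂ := by
  have e := IsLimit.conePointUniqueUpToIso hS.fIsKernel (kernelIsKernel S.g)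
  exact art_of_extension S.g (isArtinianObject_of_mono (X := kernel S.g) (Y := S.X₁) e.inv)

instance noeth_biprod (P Q : C) [IsNoetherianObject P] [IsNoetherianObject Q] :
    IsNoetherianObject (P ⊞ Q) :=
  noeth_of_shortExact (S := ShortComplex.mk (biprod.inl : P ⟶ P ⊞ Q) biprod.snd biprod.inl_snd)
    (ShortComplex.Splitting.ofHasBinaryBiproduct P Q).shortExact

instance art_biprod (P Q : C) [IsArtinianObject P] [IsArtinianObject Q] :
    IsArtinianObject (P ⊞ Q) :=
  art_of_shortExact (S := ShortComplex.mk (biprod.inl : P ⟶ P ⊞ Q) biprod.snd biprod.inl_snd)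
    (ShortComplex.Splitting.ofHasBinaryBiproduct P Q).shortExact

end Noeth

end GrothLib.ARSys
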