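import Groth.Prelude.Def_ARSys
import Groth.Agent.Lib.ARSys.Sub
import Mathlib.CategoryTheory.Abelian.SerreClass.MorphismProperty
import Mathlib.CategoryTheory.Limits.FunctorCategory.EpiMono
import Mathlib.CategoryTheory.Abelian.Exact

/-!
Projective systems up to translation: transition maps, the Serre class of null systems,
isomorphisms up to translation and their shifted inverses.
-/

universe w v u

open CategoryTheory CategoryTheory.Limits Opposite ZeroObject

namespace GrothLib.ARSys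

open _root_.ARSys

variable {C : Type u} [Category.{v} C]

section Tr

variable (X : PS C)

@[reassoc (attr := simp)]
theorem tr_tr {a b c : ℕ} (h₁ : a ≤ b) (h₂ : b ≤ c) : tr X h₂ ≫ tr X h₁ = tr X (h₁.trans h₂) := by
  rw [tr, tr, tr, ← Functor.map_comp, ← op_comp]
  rfl

@[simp]
theorem tr_self {a : ℕ} (h : a ≤ a) : tr X h = 𝟙 _ := by
  rw [tr, show (homOfLE h).op = 𝟙 (op a) from rfl, CategoryTheory.Functor.map_id]

/-- Transition maps between equal indices are isomorphisms. -/
instance isIso_tr_of_eq {a : ℕ} (h : a ≤ a) : IsIso (tr X h) := by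
  rw [tr_self]; infer_instance

theorem isIso_tr {a b : ℕ} (h : a ≤ b) (e : a = b) : IsIso (tr X h) := by
  subst e; infer_instance

variable {X}

@[reassoc]
theorem tr_app {Y : PS C} (u : X ⟶ Y) {a b : ℕ} (h : a ≤ b) :
    tr X h ≫ u.app (op a) = u.app (op b) ≫ tr Y h :=
  u.naturality _

theorem shift_tr (X : PS C) (r : ℕ) {a b : ℕ} (h : a ≤ b) :
    tr ((shift C r).obj X) h = tr X (Nat.add_le_add_right h r) := rfl

theorem shift_map_app {Y : PS C} (u : X ⟶ Y) (r n : ℕ) :
    ((shift C r).map u).app (op n) = u.app (op (n + r)) := rfl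

/-- Build a morphism of projective systems from components compatible with transition maps. -/
def mkHom {X Y : PS C} (f : ∀ n : ℕ, X.obj (op n) ⟶ Y.obj (op n))
    (h : ∀ (a b : ℕ) (hab : a ≤ b), tr X hab ≫ f a = f b ≫ tr Y hab) : X ⟶ Y where
  app n := f n.unop
  naturality := fun a b φ => h b.unop a.unop (leOfHom φ.unop)

@[simp]
theorem mkHom_app {X Y : PS C} (f : ∀ n : ℕ, X.obj (op n) ⟶ Y.obj (op n)) (h) (n : ℕ) :
    (mkHom f h).app (op n) = f n := rfl

theorem hom_ext' {X Y : PS C} {u v : X ⟶ Y} (h : ∀ n : ℕ, u.app (op n) = v.app (op n)) : u = v :=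
  NatTrans.ext (funext fun n => h n.unop)

/-- The canonical translation morphism `X[r] ⟶ X`. -/
def shiftHom (X : PS C) (r : ℕ) : (shift C r).obj X ⟶ X :=
  mkHom (fun n => shiftMap X r n) fun a b hab => by
    exact (tr_tr X _ _).trans (tr_tr X hab (Nat.le_add_right b r)).symm

@[simp]
theorem shiftHom_app (X : PS C) (r n : ℕ) : (shiftHom X r).app (op n) = shiftMap X r n := rfl

end Tr

section Preadd

variable [Preadditive C]

theorem isARNull_iff (X : PS C) :
    IsARNull X ↔ ∃ r : ℕ, ∀ {a b : ℕ} (h : a ≤ b), a + r ≤ b → tr X h = 0 := by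
  constructor
  · rintro ⟨r, hr⟩
    refine ⟨r, fun {a b} h hab => ?_⟩
    rw [← tr_tr X (Nat.le_add_right a r) hab, show tr X (Nat.le_add_right a r) = 0 from hr a, comp_zero]
  · rintro ⟨r, hr⟩
    exact ⟨r, fun n => hr _ le_rfl⟩

end Preadd

variable [Abelian C]

/-- Components of a morphism that is a monomorphism. -/
instance mono_app_ps {X Y : PS C} (u : X ⟶ Y) [Mono u] (n : ℕᵒᵖ) : Mono (u.app n) := inferInstance

instance epi_app_ps {X Y : PS C} (u : X ⟶ Y) [Epi u] (n : ℕᵒᵖ) : Epi (u.app n) := inferInstance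

theorem null_of_mono {X Y : PS C} (f : X ⟶ Y) [Mono f] (h : IsARNull Y) : IsARNull X := by
  obtain ⟨r, hr⟩ := (isARNull_iff _).mp h
  refine (isARNull_iff _).mpr ⟨r, fun {a b} hab hr' => ?_⟩
  rw [← cancel_mono (f.app (op a)), zero_comp, tr_app, hr hab hr', comp_zero]

theorem null_of_epi {X Y : PS C} (f : X ⟶ Y) [Epi f] (h : IsARNull X) : IsARNull Y := by
  obtain ⟨r, hr⟩ := (isARNull_iff _).mp h
  refine (isARNull_iff _).mpr ⟨r, fun {a b} hab hr' => ?_⟩
  rw [← cancel_epi (f.app (op b)), comp_zero, ← tr_app, hr hab hr', zero_comp]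

/-- The short exact sequence of components. -/
theorem shortExact_app {S : ShortComplex (PS C)} (hS : S.ShortExact) (n : ℕ) :
    (S.map ((evaluation ℕᵒᵖ C).obj (op n))).ShortExact :=
  hS.map_of_exact _

theorem exact_app {S : ShortComplex (PS C)} (hS : S.Exact) (n : ℕ) :
    (S.map ((evaluation ℕᵒᵖ C).obj (op n))).Exact :=
  hS.map _

theorem null_of_shortExact {S : ShortComplex (PS C)} (hS : S.ShortExact) (h₁ : IsARNull S.X₁)
    (h₃ : IsARNull S.X₃) : IsARNull S.X₂ := by
  obtain ⟨r, hr⟩ := (isARNull_iff _).mp h₁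
  obtain ⟨s, hs⟩ := (isARNull_iff _).mp h₃
  refine (isARNull_iff _).mpr ⟨r + s, fun {a b} h hab => ?_⟩
  have hm : Mono ((S.map ((evaluation ℕᵒᵖ C).obj (op (a + r)))).f) := (shortExact_app hS (a + r)).mono_f
  have h0 : tr S.X₂ (show a + r ≤ b by omega) ≫ S.g.app (op (a + r)) = 0 := by
    rw [tr_app, hs _ (by omega), comp_zero]
  let l : S.X₂.obj (op b) ⟶ S.X₁.obj (op (a + r)) :=
    (shortExact_app hS (a + r)).exact.lift (tr S.X₂ (show a + r ≤ b by omega)) h0
  have hl : l ≫ S.f.app (op (a + r)) = tr S.X₂ (show a + r ≤ b by omega) :=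
    (shortExact_app hS (a + r)).exact.lift_f _ h0
  rw [← tr_tr S.X₂ (Nat.le_add_right a r) (show a + r ≤ b by omega), ← hl, Category.assoc, ← tr_app,
    hr _ le_rfl, zero_comp, comp_zero]

theorem null_of_isZero {X : PS C} (h : IsZero X) : IsARNull X :=
  ⟨0, fun n => (h.obj (op n)).eq_of_tgt _ _⟩

/-- The Serre class of systems null up to translation. -/
def Null (C : Type u) [Category.{v} C] [Abelian C] : ObjectProperty (PS C) := IsARNull

instance serre_null : (Null C).IsSerreClass where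
  exists_zero := ⟨0, isZero_zero _, null_of_isZero (isZero_zero _)⟩
  prop_of_mono f _ h := null_of_mono f h
  prop_of_epi f _ h := null_of_epi f h
  prop_X₂_of_shortExact hS h₁ h₃ := null_of_shortExact hS h₁ h₃

theorem isARIso_iff {X Y : PS C} (u : X ⟶ Y) : IsARIso u ↔ (Null C).isoModSerre u := Iff.rfl

theorem arIso_comp {X Y Z : PS C} {u : X ⟶ Y} {v : Y ⟶ Z} (hu : IsARIso u) (hv : IsARIso v) :
    IsARIso (u ≫ v) :=
  (Null C).isoModSerre.comp_mem u v hu hv

theorem arIso_of_comp_left {X Y Z : PS C} (u : X ⟶ Y) (v : Y ⟶ Z) (hu : IsARIso u)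
    (h : IsARIso (u ≫ v)) : IsARIso v :=
  (Null C).isoModSerre.of_precomp (W' := (Null C).isoModSerre) u v hu h

theorem arIso_of_comp_right {X Y Z : PS C} (u : X ⟶ Y) (v : Y ⟶ Z) (hv : IsARIso v)
    (h : IsARIso (u ≫ v)) : IsARIso u :=
  (Null C).isoModSerre.of_postcomp (W' := (Null C).isoModSerre) u v hv h

theorem arIso_of_isIso {X Y : PS C} (u : X ⟶ Y) [IsIso u] : IsARIso u :=
  (Null C).isoModSerre_of_isIso u

theorem arIso_of_mono {X Y : PS C} (u : X ⟶ Y) [Mono u] (h : IsARNull (cokernel u)) : IsARIso u :=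
  ⟨(Null C).monoModSerre_of_mono u, h⟩

theorem arIso_of_epi {X Y : PS C} (u : X ⟶ Y) [Epi u] (h : IsARNull (kernel u)) : IsARIso u :=
  ⟨h, (Null C).epiModSerre_of_epi u⟩

/-- A shifted two-sided inverse of a morphism, given componentwise. -/
structure ARInv {X Y : PS C} (u : X ⟶ Y) where
  /-- the amount of translation -/
  r : ℕ
  /-- the shifted inverse -/
  v : ∀ {a b : ℕ}, a + r ≤ b → (Y.obj (op b) ⟶ X.obj (op a))
  v_u : ∀ {a b : ℕ} (h : a + r ≤ b), v h ≫ u.app (op a) = tr Y ((Nat.le_add_right a r).trans h)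
  u_v : ∀ {a b : ℕ} (h : a + r ≤ b), u.app (op b) ≫ v h = tr X ((Nat.le_add_right a r).trans h)
  tr_v : ∀ {a b b' : ℕ} (h : a + r ≤ b) (hb : b ≤ b'), tr Y hb ≫ v h = v (h.trans hb)
  v_tr : ∀ {a a' b : ℕ} (h : a + r ≤ b) (ha : a' ≤ a),
    v h ≫ tr X ha = v ((Nat.add_le_add_right ha r).trans h)

namespace ARInv

variable {X Y : PS C} {u : X ⟶ Y}

attribute [reassoc (attr := simp)] v_u u_v tr_v v_tr

/-- A shifted inverse as a morphism of projective systems. -/
def hom (i : ARInv u) : (shift C i.r).obj Y ⟶ X :=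
  mkHom (fun _ => i.v le_rfl) fun a b hab => by
    show tr Y (Nat.add_le_add_right hab i.r) ≫ i.v le_rfl = i.v le_rfl ≫ tr X hab
    simp

@[simp]
theorem hom_app (i : ARInv u) (n : ℕ) : i.hom.app (op n) = i.v le_rfl := rfl

theorem arIso (i : ARInv u) : IsARIso u := by
  refine ⟨(isARNull_iff _).mpr ⟨i.r, fun {a b} h hab => ?_⟩, (isARNull_iff _).mpr ⟨i.r, fun {a b} h hab => ?_⟩⟩
  · rw [← cancel_mono ((kernel.ι u).app (op a)), zero_comp, tr_app, ← i.u_v hab, ← Category.assoc,
      ← NatTrans.comp_app, kernel.condition]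
    simp
  · rw [← cancel_epi ((cokernel.π u).app (op b)), comp_zero, ← tr_app, ← i.v_u hab,
      Category.assoc, ← NatTrans.comp_app, cokernel.condition]
    simp

/-- Composition of shifted inverses. -/
def comp {Z : PS C} {v : Y ⟶ Z} (i : ARInv u) (j : ARInv v) : ARInv (u ≫ v) where
  r := i.r + j.r
  v {a b} h := j.v (show (a + i.r) + j.r ≤ b by omega) ≫ i.v le_rfl
  v_u h := by
    rw [NatTrans.comp_app, Category.assoc, ARInv.v_u_assoc, tr_app, ARInv.v_u_assoc, tr_tr]
  u_v h := by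
    rw [NatTrans.comp_app, Category.assoc, ARInv.u_v_assoc, ← Category.assoc, ← tr_app, Category.assoc, ARInv.u_v, tr_tr]
  tr_v h hb := by simp
  v_tr {a a' b} h ha := by
    rw [Category.assoc, i.v_tr le_rfl ha, ← i.tr_v (le_refl (a' + i.r)) (Nat.add_le_add_right ha _), j.v_tr_assoc]

end ARInv

/-- The shifted inverse of an isomorphism up to translation exists. -/
theorem exists_arInv {X Y : PS C} {u : X ⟶ Y} (hu : IsARIso u) : Nonempty (ARInv u) := by
  obtain ⟨r, hr⟩ := (isARNull_iff _).mp hu.1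
  obtain ⟨s, hs⟩ := (isARNull_iff _).mp hu.2
  -- image factorisation
  let e := Abelian.factorThruImage u
  let m := Abelian.image.ι u
  have hem : e ≫ m = u := Abelian.image.fac u
  have he : ∀ {a b : ℕ} (h : a ≤ b), a + r ≤ b → (kernel.ι e).app (op b) ≫ tr X h = 0 := by
    intro a b h hab
    have : kernel.ι e ≫ u = 0 :=
      (congrArg (kernel.ι e ≫ ·) hem.symm).trans ((kernel.condition_assoc _ _).trans zero_comp)
    have hfac : kernel.lift u (kernel.ι e) this ≫ kernel.ι u = kernel.ι e := kernel.lift_ι _ _ _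
    rw [← hfac, NatTrans.comp_app, Category.assoc, ← tr_app, hr h hab, zero_comp, comp_zero]
  have hm : ∀ {a b : ℕ} (h : a ≤ b), a + s ≤ b → tr Y h ≫ (cokernel.π u).app (op a) = 0 := by
    intro a b h hab
    rw [tr_app, hs h hab, comp_zero]
  have hex₁ : ∀ n : ℕ, (ShortComplex.mk ((kernel.ι e).app (op n)) (e.app (op n))
      (by rw [← NatTrans.comp_app, kernel.condition]; rfl)).Exact := fun n =>
    exact_app (S := ShortComplex.mk _ _ (kernel.condition e)) (ShortComplex.exact_kernel e) n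
  have hex₂ : ∀ n : ℕ, (ShortComplex.mk (m.app (op n)) ((cokernel.π u).app (op n))
      (by rw [← NatTrans.comp_app, show m ≫ cokernel.π u = 0 from kernel.condition _]; rfl)).Exact := fun n =>
    exact_app (S := ShortComplex.mk _ _ (kernel.condition (cokernel.π u))) (ShortComplex.exact_kernel _) n
  haveI : ∀ n : ℕ, Mono (ShortComplex.mk (m.app (op n)) ((cokernel.π u).app (op n))
      (by rw [← NatTrans.comp_app, show m ≫ cokernel.π u = 0 from kernel.condition _]; rfl)).f := fun n => by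
    dsimp; infer_instance
  haveI : ∀ n : ℕ, Epi (ShortComplex.mk ((kernel.ι e).app (op n)) (e.app (op n))
      (by rw [← NatTrans.comp_app, kernel.condition]; rfl)).g := fun n => by
    dsimp; infer_instance
  -- lift to the image, and descend from the image
  let σ : ∀ {a b : ℕ}, a + s ≤ b → (Y.obj (op b) ⟶ (Abelian.image u).obj (op a)) := fun {a b} h =>
    (hex₂ a).lift (tr Y ((Nat.le_add_right a s).trans h)) (hm _ h)
  let τ : ∀ {a b : ℕ}, a + r ≤ b → ((Abelian.image u).obj (op b) ⟶ X.obj (op a)) := fun {a b} h =>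
    (hex₁ b).desc (tr X ((Nat.le_add_right a r).trans h)) (he _ h)
  have hσ : ∀ {a b : ℕ} (h : a + s ≤ b), σ h ≫ m.app (op a) = tr Y ((Nat.le_add_right a s).trans h) :=
    fun {a b} h => (hex₂ a).lift_f _ _
  have hτ : ∀ {a b : ℕ} (h : a + r ≤ b), e.app (op b) ≫ τ h = tr X ((Nat.le_add_right a r).trans h) :=
    fun {a b} h => (hex₁ b).g_desc _ _
  have hap : ∀ n, e.app (op n) ≫ m.app (op n) = u.app (op n) := fun n =>
    congrArg (fun f => NatTrans.app f (op n)) hem
  have hσtr : ∀ {a b b' : ℕ} (h : a + s ≤ b) (hb : b ≤ b'), tr Y hb ≫ σ h = σ (h.trans hb) := by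
    intro a b b' h hb
    rw [← cancel_mono (m.app (op a)), Category.assoc, hσ, hσ, tr_tr]
    all_goals omega
  have hτtr : ∀ {a a' b : ℕ} (h : a + r ≤ b) (ha : a' ≤ a),
      τ h ≫ tr X ha = τ ((Nat.add_le_add_right ha r).trans h) := by
    intro a a' b h ha
    rw [← cancel_epi (e.app (op b)), ← Category.assoc, hτ, hτ, tr_tr]
    all_goals omega
  have hτu : ∀ {a b : ℕ} (h : a + r ≤ b),
      τ h ≫ u.app (op a) = tr (Abelian.image u) ((Nat.le_add_right a r).trans h) ≫ m.app (op a) := by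
    intro a b h
    rw [← cancel_epi (e.app (op b)), ← Category.assoc, hτ, ← hap, ← Category.assoc, tr_app e, Category.assoc]
    all_goals omega
  have hσtr2 : ∀ {a a' b : ℕ} (h : a + s ≤ b) (ha : a' ≤ a),
      σ h ≫ tr (Abelian.image u) ha = σ ((Nat.add_le_add_right ha s).trans h) := by
    intro a a' b h ha
    rw [← cancel_mono (m.app (op a')), Category.assoc, tr_app m, ← Category.assoc, hσ, hσ, tr_tr]
    all_goals omega
  have hτtr2 : ∀ {a b b' : ℕ} (h : a + r ≤ b) (hb : b ≤ b'),
      tr (Abelian.image u) hb ≫ τ h = τ (h.trans hb) := by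
    intro a b b' h hb
    rw [← cancel_epi (e.app (op b')), ← Category.assoc, ← tr_app e, Category.assoc, hτ, hτ, tr_tr]
    all_goals omega
  refine ⟨⟨r + s, fun {a b} h => σ (show (a + r) + s ≤ b by omega) ≫ τ le_rfl, ?_, ?_, ?_, ?_⟩⟩
  · intro a b h
    rw [Category.assoc, hτu, tr_app m, ← Category.assoc, hσ, tr_tr]
    all_goals omega
  · intro a b h
    rw [← Category.assoc]
    have : u.app (op b) ≫ σ (show (a + r) + s ≤ b by omega) =
        tr X (show a + r ≤ b by omega) ≫ e.app (op (a + r)) := by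
      rw [← cancel_mono (m.app (op (a + r))), Category.assoc, hσ, Category.assoc, hap, tr_app u]
      all_goals omega
    rw [this, Category.assoc, hτ, tr_tr]
    all_goals omega
  · intro a b b' h hb
    rw [← Category.assoc, hσtr]
    all_goals omega
  · intro a a' b h ha
    rw [Category.assoc, hτtr le_rfl ha, ← hτtr2 (le_refl (a' + r)) (Nat.add_le_add_right ha r),
      ← Category.assoc, hσtr2]
    all_goals omega

theorem isARIso_iff_nonempty {X Y : PS C} (u : X ⟶ Y) : IsARIso u ↔ Nonempty (ARInv u) :=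
  ⟨exists_arInv, fun ⟨i⟩ => i.arIso⟩

theorem arIso_shiftHom (X : PS C) (r : ℕ) : IsARIso (shiftHom X r) :=
  ARInv.arIso (u := shiftHom X r)
    { r := r
      v := fun {a b} h => tr X (show a + r ≤ b from h)
      v_u := fun _ => tr_tr X _ _
      u_v := fun _ => tr_tr X _ _
      tr_v := fun _ _ => tr_tr X _ _
      v_tr := fun {a a' b} h ha => tr_tr X _ _ }

/-- Pulling an isomorphism up to translation back along any map. -/
theorem arIso_of_isPullback {P X Y Z : PS C} {fst : P ⟶ X} {snd : P ⟶ Y} {f : X ⟶ Z} {g : Y ⟶ Z}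
    (h : IsPullback fst snd f g) (hg : IsARIso g) : IsARIso fst :=
  MorphismProperty.of_isPullback (P := (Null C).isoModSerre) h.flip hg

theorem null_of_arIso_left {X Y : PS C} {u : X ⟶ Y} (hu : IsARIso u) (h : IsARNull X) : IsARNull Y :=
  (Null C).prop_X₂_of_exact (ShortComplex.exact_cokernel u) h hu.2

theorem null_of_arIso_right {X Y : PS C} {u : X ⟶ Y} (hu : IsARIso u) (h : IsARNull Y) : IsARNull X :=
  (Null C).prop_X₂_of_exact (ShortComplex.exact_kernel u) hu.1 h

end GrothLib.ARSys
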