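import Groth.Agent.Lib.ARSys.ARAdic
import Groth.Agent.Lib.ModConstr.Adic
import Groth.Prelude.Def_WeakSerre

/-!
# Detecting systems adic up to translation with a finite jointly faithful family of exact functors
-/

set_option autoImplicit false
set_option linter.style.haveILetI false
set_option linter.unusedSectionVars false

universe w v u v' u' t

open CategoryTheory CategoryTheory.Limits Opposite

noncomputable section

namespace GrothLib.ARSys

open _root_.ARSys

attribute [local instance] Abelian.hasFiniteBiproducts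

variable {C : Type u} [Category.{v} C] [Abelian C] {A : Type w} [CommRing A] [Linear A C] {J : Ideal A}

/-- Weak Serre classes contain finite sums of copies. -/
theorem prop_biproduct_const (P : ObjectProperty C) [WSerre.IsWeakSerre P] {m : ℕ} {X : C} (h : P X) :
    P (⨁ fun _ : Fin m => X) := by
  haveI : P.IsClosedUnderLimitsOfShape (Discrete (Fin m)) :=
    ObjectProperty.IsClosedUnderFiniteProducts.isClosedUnderLimitsOfShape (Fin m)
  exact P.prop_of_isLimit (biproduct.isLimit _) fun _ => h

/-- The image subobject of a map in a weak Serre class. -/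
theorem prop_imageSubobject (P : ObjectProperty C) [WSerre.IsWeakSerre P] {X Y : C} (f : X ⟶ Y) (hX : P X) (hY : P Y) :
    P (imageSubobject f : C) := by
  have hK : P (kernel (cokernel.π f)) := P.prop_of_isLimit_kernelFork (limit.isLimit _) hY
    (P.prop_of_isColimit_cokernelCofork (colimit.isColimit _) hX hY)
  exact P.prop_of_iso (Abelian.imageIsoImage f ≪≫ (imageSubobjectIso f).symm) hK

theorem imageSubobject_eq_of_comp_zero {X X' Y : C} (f : X ⟶ Y) (g : X' ⟶ Y) (h : X ⟶ X') (e : h ≫ g = f)
    (h0 : g ≫ cokernel.π f = 0) : imageSubobject f = imageSubobject g := by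
  refine le_antisymm ?_ ?_
  · subst e
    exact imageSubobject_comp_le h g
  · rw [imageSubobject_le_iff, factors_imageSubobject_iff]
    obtain ⟨A', π, hπ, x, hx⟩ :=
      (ShortComplex.exact_iff_exact_up_to_refinements _).1 (ShortComplex.exact_cokernel f) g h0
    exact ⟨A', π, hπ, x, hx⟩

variable {ι : Type t} [Finite ι] {D : ι → Type u'} [∀ i, Category.{v'} (D i)] [∀ i, Abelian (D i)]
  [∀ i, Linear A (D i)] (G : ∀ i, C ⥤ D i) [∀ i, (G i).Additive] [∀ i, (G i).Linear A]
  [∀ i, PreservesFiniteColimits (G i)] [∀ i, PreservesFiniteLimits (G i)]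

/-- A system is adic up to translation if it is so after applying a finite jointly faithful family. -/
theorem arAdic_of_family (hJ : J.FG) (P : ObjectProperty C) [WSerre.IsWeakSerre P]
    (hP : ∀ {X Y : C} (φ : X ⟶ Y), P X → P Y → (∀ i, (G i).map φ = 0) → φ = 0)
    (F : PS C) (hF : TermKilled J F) (hFP : ∀ n : ℕ, P (F.obj (op n)))
    (h : ∀ i, IsARAdic J (F ⋙ G i)) : IsARAdic J F := by
  classical
  haveI := Fintype.ofFinite ι
  choose r hr using fun i => (isMLAR_iff _).1 (isMLAR_of_arAdic (h i))
  let R := Finset.univ.sup r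
  have hML : IsMLAR F := by
    refine (isMLAR_iff F).2 ⟨R, fun {a b} hb => ?_⟩
    refine imageSubobject_eq_of_comp_zero _ _ (tr F hb) (tr_tr F _ _) (hP _ (hFP _) ?_ fun i => ?_)
    · exact P.prop_of_isColimit_cokernelCofork (colimit.isColimit _) (hFP _) (hFP _)
    · have hri : r i ≤ R := Finset.le_sup (Finset.mem_univ i)
      have h1 : (G i).map (tr F (show a ≤ b by omega)) ≫ (G i).map (cokernel.π (tr F (show a ≤ b by omega))) = 0 := by
        rw [← Functor.map_comp, cokernel.condition, Functor.map_zero]
      have e : imT (F ⋙ G i) (Nat.le_add_right a R) = imT (F ⋙ G i) (show a ≤ b by omega) :=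
        (hr i (show a + r i ≤ a + R by omega)).trans (hr i (show a + r i ≤ b by omega)).symm
      have h2 : (imT (F ⋙ G i) (show a ≤ b by omega)).arrow ≫
          (G i).map (cokernel.π (tr F (show a ≤ b by omega))) = 0 := by
        show (imageSubobject (tr (F ⋙ G i) (show a ≤ b by omega))).arrow ≫ _ = 0
        rw [← cancel_epi (factorThruImageSubobject (tr (F ⋙ G i) (show a ≤ b by omega))), comp_zero,
          ← Category.assoc, imageSubobject_arrow_comp]
        exact h1
      rw [Functor.map_comp]
      have h3 : (imT (F ⋙ G i) (show a ≤ b by omega)).Factors (tr (F ⋙ G i) (Nat.le_add_right a R)) := by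
        rw [← e, ← imageSubobject_le_iff]
        rfl
      show tr (F ⋙ G i) (Nat.le_add_right a R) ≫ _ = 0
      rw [← Subobject.factorThru_arrow _ _ h3, Category.assoc, h2, comp_zero]
  obtain ⟨Z, z, rZ, hz, hZs, hzAR, hZim⟩ := exists_universalImage hML
  have hZP : ∀ n : ℕ, P (Z.obj (op n)) := fun n => by
    have e := hZim (le_refl (n + rZ))
    haveI : Mono (z.app (op n)) := inferInstance
    refine P.prop_of_iso ?_ (prop_imageSubobject P (tr F (Nat.le_add_right n rZ)) (hFP _) (hFP n))
    exact Subobject.isoOfEq _ (Subobject.mk (z.app (op n))) (e.symm.trans (imageSubobject_mono _)) ≪≫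
      Subobject.underlyingIso _
  have hZk : TermKilled J Z := fun n => killedBy_of_mono (z.app (op n)) (hF n)
  choose r' hr'0 hr' using fun i => exists_fker_bound (J := J) (X := Z ⋙ G i)
    (fun n m hnm => by haveI := hZs n m hnm; exact inferInstanceAs (Epi ((G i).map (tr Z hnm))))
    (arAdic_of_arIso_bwd (GrothLib.ModConstr.arIso_map (G i) hzAR)
      (fun n => GrothLib.ModConstr.killedBy_map (G i) (hZk n)) (h i))
  let R' := Finset.univ.sup r'
  refine arAdic_of_arIso_fwd hzAR (arAdic_of_fker_bound (Or.inl hJ) hZs hZk R' fun n => ?_) hF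
  rcases n with _ | k
  · rw [Nat.zero_sub, pow_zero, Ideal.one_eq_top]
    exact subLE_top_ideal _
  intro Y φ hφ
  obtain ⟨m, s, hs⟩ := Submodule.fg_iff_exists_fin_generating_family.1 (Ideal.FG.pow hJ (n := k + 1 - R'))
  let q := cokernel.π (biproduct.desc (fun a : Fin m => (s a • 𝟙 (Z.obj (op (k + 1))) : Z.obj (op (k + 1)) ⟶ Z.obj (op (k + 1)))))
  have hq : IsQuot (J ^ (k + 1 - R')) q :=
    (GrothLib.ModConstr.isQuot_iff_cokernel s hs q).2 ⟨cokernel.condition _, ⟨cokernelIsCokernel _⟩⟩
  suffices hzero : (Fker Z (k + 1)).arrow ≫ q = 0 by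
    rw [← IsQuot.fac hq φ hφ, reassoc_of% hzero, zero_comp]
  have hK : P (Fker Z (k + 1) : C) :=
    P.prop_of_iso (kernelSubobjectIso _).symm (P.prop_of_isLimit_kernelFork (limit.isLimit _) (hZP _) (hZP _))
  refine hP _ hK (P.prop_of_isColimit_cokernelCofork (colimit.isColimit _) (prop_biproduct_const P (hZP _)) (hZP _))
    fun i => ?_
  have hk : HomKilledBy (J ^ (k + 1 - r' i)) ((G i).map q) :=
    homKilledBy_of_tgt (killedBy_mono (Ideal.pow_le_pow_right (Nat.sub_le_sub_left (Finset.le_sup (Finset.mem_univ i)) _))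
      (GrothLib.ModConstr.killedBy_map (G i) hq.1)) _
  have h0 : (G i).map (Fker Z (k + 1)).arrow ≫ tr (Z ⋙ G i) (Nat.le_succ k) = 0 := by
    show (G i).map (kernelSubobject (tr Z (Nat.le_succ k))).arrow ≫ (G i).map (tr Z (Nat.le_succ k)) = 0
    rw [← Functor.map_comp, kernelSubobject_arrow_comp, Functor.map_zero]
  rw [Functor.map_comp, ← Subobject.factorThru_arrow (kernelSubobject (tr (Z ⋙ G i) (Nat.le_succ k))) _
    (kernelSubobject_factors _ _ h0), Category.assoc]
  exact (congrArg _ (hr' i (k + 1) _ _ hk)).trans comp_zero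

end GrothLib.ARSys
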