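import Groth.Agent.Lib.ARSys.ARAdic
import Mathlib.Data.Fin.Tuple.NatAntidiagonal
import Mathlib.Order.WellQuasiOrder
import Mathlib.Order.WellFoundedSet
import Mathlib.Data.Finset.Max
import Mathlib.RingTheory.Ideal.Operations

/-!
Adapted systems, the strict graded object, and the basis theorem for its graded submodules.
-/

set_option linter.style.haveILetI false
set_option linter.unusedSectionVars false

universe w v u

open CategoryTheory CategoryTheory.Limits Opposite ZeroObject

namespace GrothLib.ARSys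

open _root_.ARSys

variable {C : Type u} [Category.{v} C] [Abelian C]

section Fsub

variable (X : PS C)

theorem Fsub_succ {k n : ℕ} (h : k ≤ n) : Fsub X (k + 1) n = kernelSubobject (tr X h) := by
  rw [Fsub, dif_pos h]

theorem Fsub_eq_bot {q n : ℕ} (h : n < q) : Fsub X q n = ⊥ := by
  obtain ⟨k, rfl⟩ : ∃ k, q = k + 1 := ⟨q - 1, by omega⟩
  rcases Nat.lt_or_ge n k with h' | h'
  · rw [Fsub, dif_neg (by omega)]
  · obtain rfl : k = n := by omega
    rw [Fsub_succ X le_rfl, tr_self, kernelSubobject_eq_pre, pre_id]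

theorem Fker_eq (n : ℕ) : Fker X n = Fsub X n n := by
  rcases n with _ | k
  · rfl
  · exact (Fsub_succ X (Nat.le_succ k)).symm

theorem Fsub_anti {q q' n : ℕ} (h : q ≤ q') : Fsub X q' n ≤ Fsub X q n := by
  rcases Nat.lt_or_ge n q' with hn | hn
  · rw [Fsub_eq_bot X hn]; exact bot_le
  rcases q with _ | k
  · exact le_top
  obtain ⟨k', rfl⟩ : ∃ k', q' = k' + 1 := ⟨q' - 1, by omega⟩
  rw [Fsub_succ X (show k' ≤ n by omega), Fsub_succ X (show k ≤ n by omega), kernelSubobject_eq_pre,
    kernelSubobject_eq_pre, ← tr_tr X (show k ≤ k' by omega) (show k' ≤ n by omega), ← pre_pre]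
  exact pre_mono _ bot_le

theorem pre_tr_Fsub {q m n : ℕ} (hm : m ≤ n) (hq : q ≤ m + 1) :
    pre (tr X hm) (Fsub X q m) = Fsub X q n := by
  rcases q with _ | k
  · exact pre_top _
  rw [Fsub_succ X (show k ≤ m by omega), Fsub_succ X (show k ≤ n by omega), kernelSubobject_eq_pre,
    kernelSubobject_eq_pre, pre_pre, tr_tr]

theorem img_tr_Fsub_le {q m n : ℕ} (hm : m ≤ n) (hq : q ≤ m + 1) :
    img (tr X hm) (Fsub X q n) ≤ Fsub X q m := by
  rw [img_le_iff, pre_tr_Fsub X hm hq]

theorem pre_app_Fsub {Y : PS C} (f : X ⟶ Y) [Mono f] (q n : ℕ) :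
    pre (f.app (op n)) (Fsub Y q n) = Fsub X q n := by
  rcases Nat.lt_or_ge n q with hn | hn
  · rw [Fsub_eq_bot X hn, Fsub_eq_bot Y hn, eq_bot_iff, le_iff_factors]
    intro A x hx
    rw [factors_pre_iff, Subobject.bot_factors_iff_zero] at hx
    rw [Subobject.bot_factors_iff_zero, ← cancel_mono (f.app (op n)), hx, zero_comp]
  rcases q with _ | k
  · exact pre_top _
  rw [Fsub_succ X (show k ≤ n by omega), Fsub_succ Y (show k ≤ n by omega), kernelSubobject_eq_pre,
    kernelSubobject_eq_pre, pre_pre, ← tr_app f, ← pre_pre]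
  congr 1
  rw [eq_bot_iff, le_iff_factors]
  intro A x hx
  rw [factors_pre_iff, Subobject.bot_factors_iff_zero] at hx
  rw [Subobject.bot_factors_iff_zero, ← cancel_mono (f.app (op k)), hx, zero_comp]

end Fsub

variable {A : Type w} [CommRing A] [Linear A C] {J : Ideal A} {X : PS C}

theorem act_comm {P Q : C} (f : P ⟶ Q) (a : A) : act a P ≫ f = f ≫ act a Q := by simp [act]

theorem act_mul (P : C) (a b : A) : act a P ≫ act b P = act (b * a) P := by
  simp [act, smul_smul, mul_comm]

theorem img_act_le_self {P : C} (S : Subobject P) (a : A) : img (act a P) S ≤ S := by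
  rw [img_le_iff, le_iff_factors]
  intro B x hx
  rw [factors_pre_iff]
  have : x ≫ act a P = (a • 𝟙 B) ≫ x := by simp [act]
  rw [this]
  exact Subobject.factors_of_factors_right _ hx

section Adapted

theorem img_act_eq_bot_iff {P : C} (S : Subobject P) (a : A) :
    img (act a P) S = ⊥ ↔ S.arrow ≫ (a • 𝟙 P) = 0 :=
  img_eq_bot_iff _ _

theorem adapted_bot (hA : IsAdapted J X) {n p q : ℕ} {a : A} (ha : a ∈ J ^ p) (h : n + 1 ≤ p + q) :
    img (act a (X.obj (op n))) (Fsub X q n) = ⊥ := by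
  rw [eq_bot_iff]
  rcases le_or_gt p (n + 1) with hp | hp
  · refine (img_mono _ (Fsub_anti X (show n + 1 - p ≤ q by omega))).trans (le_of_eq ?_)
    exact (img_act_eq_bot_iff _ a).mpr (hA n p hp a ha)
  · refine (img_mono _ (Fsub_anti X (Nat.zero_le q))).trans (le_of_eq ?_)
    have := hA n (n + 1) le_rfl a (Ideal.pow_le_pow_right hp.le ha)
    rw [Nat.sub_self] at this
    exact (img_act_eq_bot_iff _ a).mpr this

theorem adapted_img_le (hA : IsAdapted J X) {n p q : ℕ} {a : A} (ha : a ∈ J ^ p) :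
    img (act a (X.obj (op n))) (Fsub X q n) ≤ Fsub X (p + q) n := by
  rcases Nat.eq_zero_or_pos (p + q) with h0 | hpos
  · rw [h0]; exact le_top
  obtain ⟨m, hm⟩ : ∃ m, p + q = m + 1 := ⟨p + q - 1, by omega⟩
  rcases le_or_gt m n with hmn | hmn
  · rw [hm, Fsub_succ X hmn, kernelSubobject_eq_pre, ← img_le_iff, img_img, act_comm, ← img_img]
    refine (img_mono _ (img_tr_Fsub_le X hmn (by omega))).trans (le_of_eq ?_)
    exact adapted_bot hA ha (by omega)
  · rw [adapted_bot hA ha (by omega)]; exact bot_le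

theorem termKilled_of_adapted (hA : IsAdapted J X) : TermKilled J X := by
  intro n a ha
  have h := hA n (n + 1) le_rfl a ha
  rw [Nat.sub_self] at h
  have h' : (⊤ : Subobject (X.obj (op n))).arrow ≫ (a • 𝟙 (X.obj (op n))) = 0 := h
  rw [← cancel_epi (⊤ : Subobject (X.obj (op n))).arrow, h', comp_zero]

theorem isAdapted_iff :
    IsAdapted J X ↔ ∀ (n p q : ℕ), ∀ a ∈ J ^ p,
      imageSubobject ((Fsub X q n).arrow ≫ (a • 𝟙 (X.obj (op n)))) ≤ Fsub X (p + q) n := by
  refine ⟨fun hA n p q a ha => adapted_img_le hA ha, fun h n p hp a ha => ?_⟩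
  refine (img_act_eq_bot_iff _ a).mp (eq_bot_iff.mpr ((h n p (n + 1 - p) a ha).trans ?_))
  rw [Fsub_eq_bot X (show n < p + (n + 1 - p) by omega)]

theorem Fsub_le_smulSub (hX : IsAdic J X) {q n : ℕ} {M : Subobject (X.obj (op n))}
    (hM : IsSmulSub (J ^ q) M) : Fsub X q n ≤ M := by
  rcases Nat.lt_or_ge n q with hn | hn
  · rw [Fsub_eq_bot X hn]; exact bot_le
  rcases q with _ | k
  · rw [le_iff_factors]
    intro B x _
    have h1 : M.Factors (act (1 : A) (X.obj (op n))) :=
      (imageSubobject_le_iff _ _).mp (hM.le 1 (by simp))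
    have := Subobject.factors_of_factors_right x h1
    simpa [act] using this
  · rw [Fsub_succ X (show k ≤ n by omega)]
    exact (hM.subLE_iff _).mp (IsQuot.subLE_ker (hX.2 k n (by omega)))

theorem adapted_of_adic (hJ : J.FG ∨ HasCoproducts.{w} C) (hX : IsAdic J X) : IsAdapted J X := by
  intro n p hp a ha
  obtain ⟨M, hM⟩ := exists_isSmulSub hJ (n + 1 - p) (X.obj (op n))
  refine (img_act_eq_bot_iff _ a).mp (eq_bot_iff.mpr ((img_mono _ (Fsub_le_smulSub hX hM)).trans ?_))
  rw [img_le_iff]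
  refine hM.least _ fun b hb => ?_
  rw [← img_le_iff, ← img_top, img_img, act_mul, le_bot_iff, img_eq_bot_iff]
  have hmem : a * b ∈ J ^ (n + 1) := by
    have := Ideal.mul_mem_mul ha hb
    rw [← pow_add] at this
    exact Ideal.pow_le_pow_right (by omega) this
  rw [act, hX.1 n _ hmem, comp_zero]

theorem adapted_of_mono {Y : PS C} (f : X ⟶ Y) [Mono f] (hY : IsAdapted J Y) : IsAdapted J X := by
  intro n p hp a ha
  refine (img_act_eq_bot_iff _ a).mp ?_
  have h : img (f.app (op n)) (img (act a (X.obj (op n))) (Fsub X (n + 1 - p) n)) = ⊥ := by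
    rw [eq_bot_iff, img_img, act_comm, ← img_img]
    refine (img_mono _ ?_).trans (adapted_bot hY ha (show n + 1 ≤ p + (n + 1 - p) by omega)).le
    rw [img_le_iff, pre_app_Fsub X f]
  rw [img_eq_bot_iff, ← zero_comp, cancel_mono, arrow_eq_zero_iff] at h
  exact h

theorem img_act_ker_eq_bot (hA : IsAdapted J X) {p q : ℕ} {a : A} (ha : a ∈ J ^ p) :
    img (act a (X.obj (op (p + q)))) (kernelSubobject (tr X (Nat.le_add_left q p))) = ⊥ := by
  rw [← Fsub_succ X (Nat.le_add_left q p)]
  exact adapted_bot hA ha (by omega)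

theorem isGrSub_iff (M : (q : ℕ) → Subobject (X.obj (op q))) :
    IsGrSub J X M ↔ (∀ q, M q ≤ Fsub X q q) ∧ ∀ (p q : ℕ), ∀ a ∈ J ^ p,
      img (act a (X.obj (op (p + q)))) (pre (tr X (Nat.le_add_left q p)) (M q)) ≤ M (p + q) :=
  Iff.rfl

/-- Traces on the strict graded object of a strict family of subobjects stable under all scalars. -/
theorem isGrSub_inf (hA : IsAdapted J X) (S : ∀ n, Subobject (X.obj (op n)))
    (hS : ∀ (p q : ℕ), ∀ a ∈ J ^ p,
      img (act a (X.obj (op (p + q)))) (pre (tr X (Nat.le_add_left q p)) (S q)) ≤ S (p + q)) :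
    IsGrSub J X fun q => Fsub X q q ⊓ S q := by
  refine (isGrSub_iff _).mpr ⟨fun q => inf_le_left, fun p q a ha => ?_⟩
  rw [pre_inf, pre_tr_Fsub X _ (by omega)]
  exact le_inf ((img_mono _ inf_le_left).trans (adapted_img_le hA ha))
    ((img_mono _ inf_le_right).trans (hS p q a ha))

theorem isGrSub_inf_strict (hA : IsAdapted J X) (S : ∀ n, Subobject (X.obj (op n)))
    (hS : ∀ {m n : ℕ} (h : m ≤ n), img (tr X h) (S n) = S m) :
    IsGrSub J X fun q => Fsub X q q ⊓ S q := by
  refine isGrSub_inf hA S fun p q a ha => ?_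
  rw [← hS (Nat.le_add_left q p), pre_img, img_sup, img_act_ker_eq_bot hA ha, sup_bot_eq]
  exact img_act_le_self _ a

/-- The strict criterion for a strict adapted system with strict graded object of finite type. -/
theorem arAdic_of_adapted_finiteType (hJ : J.FG ∨ HasCoproducts.{w} C) (hX : IsStrict X)
    (hA : IsAdapted J X) (hft : GrsFiniteType J X) : IsARAdic J X := by
  choose S hS using fun (e n : ℕ) => exists_isSmulSub hJ e (X.obj (op n))
  have hmono : ∀ {e e' n : ℕ}, e' ≤ e → S e n ≤ S e' n := fun {e e' n} h =>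
    (hS e n).least _ fun a ha => (hS e' n).le a (Ideal.pow_le_pow_right h ha)
  have hgr : ∀ i, IsGrSub J X fun q => Fsub X q q ⊓ S (q - i) q := by
    intro i
    refine isGrSub_inf hA _ fun p q a ha => ?_
    haveI := hX q (p + q) (Nat.le_add_left q p)
    have hh : img (tr X (Nat.le_add_left q p)) (S (q - i) (p + q)) = S (q - i) q :=
      (hS _ _).img_of_epi (hS _ _) _
    rw [← hh, pre_img, img_sup, img_act_ker_eq_bot hA ha, sup_bot_eq, img_le_iff]
    refine (hS _ _).least _ fun b hb => ?_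
    rw [← img_le_iff, ← img_top, img_img, act_mul, img_top]
    refine (hS _ _).le _ (Ideal.pow_le_pow_right (show p + q - i ≤ p + (q - i) by omega) ?_)
    rw [pow_add]
    exact Ideal.mul_mem_mul ha hb
  have htop : ∀ n, S 0 n = ⊤ := fun n => by
    rw [eq_top_iff, le_iff_factors]
    intro B x _
    have := Subobject.factors_of_factors_right x
      ((imageSubobject_le_iff _ _).mp ((hS 0 n).le (1 : A) (by simp)))
    simpa [act] using this
  have hlub : ∀ q, IsLUB (Set.range fun i => Fsub X q q ⊓ S (q - i) q) (Fsub X q q) := by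
    refine fun q => ⟨?_, fun T hT => ?_⟩
    · rintro _ ⟨i, rfl⟩; exact inf_le_left
    · have := hT ⟨q, rfl⟩
      simpa [Nat.sub_self, htop] using this
  obtain ⟨i, hi⟩ := hft _ hgr
    (fun i j hij q => inf_le_inf_left _ (hmono (Nat.sub_le_sub_left hij q))) hlub
  refine arAdic_of_fker_bound hJ hX (termKilled_of_adapted hA) i fun n => ?_
  rw [(hS _ _).subLE_iff, Fker_eq]
  exact (hi n).ge.trans inf_le_right

end Adapted

section Closure

/-- An adic system inherits from its degree zero term any property closed under subquotients and extensions. -/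
theorem adic_induction (P : C → Prop) (hm : ∀ {Y Z : C} (f : Y ⟶ Z) [Mono f], P Z → P Y)
    (he : ∀ {Y Z : C} (f : Y ⟶ Z) [Epi f], P Y → P Z)
    (hb : ∀ Y Z : C, P Y → P Z → P (Y ⊞ Z))
    (hx : ∀ {Y Z : C} (g : Y ⟶ Z), P (kernel g) → P Z → P Y)
    (hJ : J.FG) (hX : IsAdic J X) (h0 : P (X.obj (op 0))) : ∀ n, P (X.obj (op n)) := by
  intro n
  induction n with
  | zero => exact h0
  | succ n ih =>
    obtain ⟨s, hs⟩ := Ideal.FG.pow (n := n + 1) hJ
    have hM : IsSmulSub (J ^ (n + 1)) (s.sup fun a => imageSubobject (act a (X.obj (op (n + 1))))) := by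
      rw [← hs]; exact isSmulSub_finset s _
    have key : ∀ t : Finset A, t ⊆ s →
        P ((t.sup fun a => imageSubobject (act a (X.obj (op (n + 1)))) : Subobject (X.obj (op (n + 1)))) : C) := by
      classical
      intro t
      induction t using Finset.induction_on with
      | empty =>
        intro _
        haveI : Epi (0 : X.obj (op 0) ⟶ ((⊥ : Subobject (X.obj (op (n + 1)))) : C)) :=
          IsZero.epi (IsZero.of_iso (isZero_zero C) Subobject.botCoeIsoZero) _
        simpa using he (0 : X.obj (op 0) ⟶ ((⊥ : Subobject (X.obj (op (n + 1)))) : C)) h0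
      | @insert a t hat ih' =>
        intro hsub
        rw [Finset.sup_insert]
        have ha : a ∈ J ^ (n + 1) := by
          rw [← hs]; exact Ideal.subset_span (hsub (Finset.mem_insert_self a t))
        have hk : HomKilledBy (J ^ (0 + 1)) (act a (X.obj (op (n + 1)))) := fun b hb => by
          have hmem : b * a ∈ J ^ (n + 1 + 1) := by
            rw [show n + 1 + 1 = (0 + 1) + (n + 1) by omega, pow_add]; exact Ideal.mul_mem_mul hb ha
          rw [act, smul_smul]; exact hX.1 (n + 1) _ hmem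
        obtain ⟨ψ, hψ, -⟩ := (hX.2 0 (n + 1) (Nat.zero_le _)).2 _ _ hk
        have hle : imageSubobject (act a (X.obj (op (n + 1)))) ≤ imageSubobject ψ := by
          rw [← hψ]; exact imageSubobject_comp_le _ _
        have h1 : P (imageSubobject (act a (X.obj (op (n + 1)))) : C) :=
          hm (Subobject.ofLE _ _ hle) (he (factorThruImageSubobject ψ) h0)
        have h2 := ih' (fun x hx => hsub (Finset.mem_insert_of_mem hx))
        generalize imageSubobject (act a (X.obj (op (n + 1)))) = S at h1 ⊢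
        generalize t.sup (fun a => imageSubobject (act a (X.obj (op (n + 1))))) = T at h2 ⊢
        haveI : Epi (biprod.desc (Subobject.ofLE S (S ⊔ T) le_sup_left) (Subobject.ofLE T (S ⊔ T) le_sup_right)) := by
          rw [epi_iff_surjective_up_to_refinements]
          intro B y
          obtain ⟨B', π, hπ, x₁, x₂, hx₁, hx₂, e⟩ :=
            (factors_sup_iff _).mp (Subobject.factors_comp_arrow (P := S ⊔ T) y)
          refine ⟨B', π, hπ, biprod.lift (S.factorThru x₁ hx₁) (T.factorThru x₂ hx₂), ?_⟩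
          apply Subobject.eq_of_comp_arrow_eq
          simp [biprod.lift_desc, Preadditive.add_comp, e]
        exact he (biprod.desc (Subobject.ofLE S (S ⊔ T) le_sup_left)
          (Subobject.ofLE T (S ⊔ T) le_sup_right)) (hb _ _ h1 h2)
    have hK : kernelSubobject (tr X (Nat.le_succ n)) ≤ _ :=
      (hM.subLE_iff _).mp (IsQuot.subLE_ker (hX.2 n (n + 1) (Nat.le_succ n)))
    exact hx (tr X (Nat.le_succ n)) (hm ((kernelSubobjectIso _).inv ≫ Subobject.ofLE _ _ hK) (key s subset_rfl)) ih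

theorem noeth_of_adic (hJ : J.FG) (hX : IsAdic J X) (h0 : IsNoetherianObject (X.obj (op 0))) (n : ℕ) :
    IsNoetherianObject (X.obj (op n)) :=
  adic_induction (fun Y => IsNoetherianObject Y)
    (fun f _ h => haveI := h; isNoetherianObject_of_mono f) (fun f _ h => haveI := h; noeth_of_epi f)
    (fun _ _ h h' => haveI := h; haveI := h'; noeth_biprod _ _)
    (fun g h h' => haveI := h'; noeth_of_extension g h) hJ hX h0 n

theorem art_of_adic (hJ : J.FG) (hX : IsAdic J X) (h0 : IsArtinianObject (X.obj (op 0))) (n : ℕ) :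
    IsArtinianObject (X.obj (op n)) :=
  adic_induction (fun Y => IsArtinianObject Y)
    (fun f _ h => haveI := h; isArtinianObject_of_mono f) (fun f _ h => haveI := h; art_of_epi f)
    (fun _ _ h h' => haveI := h; haveI := h'; art_biprod _ _)
    (fun g h h' => haveI := h'; art_of_extension g h) hJ hX h0 n

end Closure

section Basis

/-- Multiplication by `c` from degree `m` to degree `n` of an adic system. -/
noncomputable def μ (hX : IsAdic J X) (m n : ℕ) (c : A) : X.obj (op m) ⟶ X.obj (op n) :=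
  open scoped Classical in
  if h : ∃ ψ : X.obj (op m) ⟶ X.obj (op n), ∃ hmn : m ≤ n, tr X hmn ≫ ψ = act c (X.obj (op n))
  then h.choose else 0

theorem tr_μ (hX : IsAdic J X) {m n : ℕ} (h : m ≤ n) {c : A} (hc : c ∈ J ^ (n - m)) :
    tr X h ≫ μ hX m n c = act c (X.obj (op n)) := by
  have hk : HomKilledBy (J ^ (m + 1)) (act c (X.obj (op n))) := fun b hb => by
    have hmem : b * c ∈ J ^ (n + 1) := by
      rw [show n + 1 = (m + 1) + (n - m) by omega, pow_add]; exact Ideal.mul_mem_mul hb hc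
    rw [act, smul_smul]; exact hX.1 n _ hmem
  obtain ⟨ψ, hψ, -⟩ := (hX.2 m n h).2 _ _ hk
  have hex : ∃ ψ : X.obj (op m) ⟶ X.obj (op n), ∃ hmn : m ≤ n, tr X hmn ≫ ψ = act c (X.obj (op n)) :=
    ⟨ψ, h, hψ⟩
  rw [μ, dif_pos hex]
  exact hex.choose_spec.choose_spec

theorem μ_comp (hX : IsAdic J X) {m n l : ℕ} (h : m ≤ n) (h' : n ≤ l) {c d : A} (hc : c ∈ J ^ (n - m))
    (hd : d ∈ J ^ (l - n)) : μ hX m n c ≫ μ hX n l d = μ hX m l (d * c) := by
  haveI := adic_epi hX (h.trans h')
  have hmem : d * c ∈ J ^ (l - m) := by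
    rw [show l - m = (l - n) + (n - m) by omega, pow_add]; exact Ideal.mul_mem_mul hd hc
  rw [← cancel_epi (tr X (h.trans h')), tr_μ hX (h.trans h') hmem, ← tr_tr X h h', Category.assoc,
    ← Category.assoc (tr X h), tr_μ hX h hc, act_comm, ← Category.assoc, ← act_comm,
    tr_μ hX h' hd, act_mul]

theorem img_μ_le (hX : IsAdic J X) {M : (q : ℕ) → Subobject (X.obj (op q))} (hM : IsGrSub J X M)
    {m n : ℕ} (h : m ≤ n) {c : A} (hc : c ∈ J ^ (n - m)) : img (μ hX m n c) (M m) ≤ M n := by
  obtain ⟨p, rfl⟩ : ∃ p, n = p + m := ⟨n - m, by omega⟩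
  haveI := adic_epi hX (Nat.le_add_left m p)
  rw [← img_pre_of_epi (tr X (Nat.le_add_left m p)) (M m), img_img, tr_μ hX h hc]
  exact ((isGrSub_iff M).mp hM).2 p m c (by rwa [Nat.add_sub_cancel] at hc)

variable {k : ℕ} (a : Fin k → A)

/-- The monomial with exponent `α`. -/
def mon (α : Lex (Fin k → ℕ)) : A := ∏ j, a j ^ ofLex α j

/-- The degree of an exponent. -/
def deg (α : Lex (Fin k → ℕ)) : ℕ := ∑ j, ofLex α j

/-- Exponents of degree `n`. -/
def expts (k n : ℕ) : Finset (Lex (Fin k → ℕ)) :=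
  (Finset.Nat.antidiagonalTuple k n).map toLex.toEmbedding

theorem mem_expts {n : ℕ} {α : Lex (Fin k → ℕ)} : α ∈ expts k n ↔ deg α = n := by
  simp only [expts, Finset.mem_map_equiv, deg, Finset.Nat.mem_antidiagonalTuple]
  rfl

theorem mon_mem {α : Lex (Fin k → ℕ)} (ha : ∀ j, a j ∈ J) : mon a α ∈ J ^ deg α := by
  rw [deg, ← Finset.prod_pow_eq_pow_sum]
  exact Ideal.prod_mem_prod fun j _ => Ideal.pow_mem_pow (ha j) _

theorem mon_add (α β : Lex (Fin k → ℕ)) : mon a (α + β) = mon a α * mon a β := by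
  simp only [mon, ofLex_add, Pi.add_apply, pow_add, Finset.prod_mul_distrib]

theorem deg_add (α β : Lex (Fin k → ℕ)) : deg (α + β) = deg α + deg β := by
  simp only [deg, ofLex_add, Pi.add_apply, Finset.sum_add_distrib]

theorem lex_add_lt {α β γ : Lex (Fin k → ℕ)} (h : β < α) : γ + β < γ + α := by
  obtain ⟨i, h1, h2⟩ := h
  exact ⟨i, fun j hj => congrArg (fun t => ofLex γ j + t) (h1 j hj), Nat.add_lt_add_left h2 _⟩

theorem pow_le_span_mon (hJ : J = Ideal.span (Set.range a)) (n : ℕ) :
    J ^ n ≤ Ideal.span (mon a '' (expts k n : Set (Lex (Fin k → ℕ)))) := by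
  induction n with
  | zero =>
    rw [pow_zero, Ideal.one_eq_top, top_le_iff, Ideal.eq_top_iff_one]
    exact Ideal.subset_span ⟨toLex 0, mem_expts.mpr (Finset.sum_eq_zero fun _ _ => rfl), Finset.prod_eq_one fun j _ => pow_zero (a j)⟩
  | succ n ih =>
    rw [pow_succ, hJ]
    refine (Ideal.mul_mono (hJ ▸ ih) le_rfl).trans ?_
    rw [Ideal.span_mul_span', Ideal.span_le]
    rintro _ ⟨_, ⟨α, hα, rfl⟩, _, ⟨j, rfl⟩, rfl⟩
    refine Ideal.subset_span ⟨α + toLex (Pi.single j 1), mem_expts.mpr ?_, ?_⟩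
    · rw [deg_add, mem_expts.mp hα]; simp [deg]
    · rw [mon_add]
      congr 1
      rw [mon, Finset.prod_eq_single j] <;> simp +contextual [Pi.single_apply]

open scoped Classical in
/-- The part of degree `n` generated by monomials smaller than `α`. -/
noncomputable def below (hX : IsAdic J X) (n : ℕ) (α : Lex (Fin k → ℕ)) : Subobject (X.obj (op n)) :=
  ((expts k n).filter (· < α)).sup fun β => imageSubobject (μ hX 0 n (mon a β))

/-- The leading coefficients in position `α`. -/
noncomputable def lead (hX : IsAdic J X) (M : (q : ℕ) → Subobject (X.obj (op q))) (n : ℕ)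
    (α : Lex (Fin k → ℕ)) : Subobject (X.obj (op 0)) :=
  pre (μ hX 0 n (mon a α)) (M n ⊔ below a hX n α)

theorem lead_le_add (hX : IsAdic J X) {M : (q : ℕ) → Subobject (X.obj (op q))} (hM : IsGrSub J X M)
    (ha : ∀ j, a j ∈ J) (α γ : Lex (Fin k → ℕ)) :
    lead a hX M (deg α) α ≤ lead a hX M (deg (γ + α)) (γ + α) := by
  have hγ : mon a γ ∈ J ^ (deg (γ + α) - deg α) := by
    rw [deg_add, Nat.add_sub_cancel]; exact mon_mem a ha
  classical
  have hle : deg α ≤ deg (γ + α) := by rw [deg_add]; omega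
  have hmu : ∀ β, deg β = deg α →
      μ hX 0 (deg α) (mon a β) ≫ μ hX (deg α) (deg (γ + α)) (mon a γ) = μ hX 0 (deg (γ + α)) (mon a (γ + β)) := by
    intro β hβ
    rw [μ_comp hX (Nat.zero_le _) hle (by rw [Nat.sub_zero, ← hβ]; exact mon_mem a ha) hγ, mon_add]
  rw [lead, lead, ← img_le_iff, ← hmu α rfl, ← img_img]
  refine (img_mono _ ((gc_img_pre _).l_u_le _)).trans ?_
  rw [img_sup]
  refine sup_le_sup (img_μ_le hX hM hle hγ) ?_
  rw [img_le_iff, below, Finset.sup_le_iff]
  intro β hβ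
  rw [Finset.mem_filter] at hβ
  have hβ' := mem_expts.mp hβ.1
  rw [← img_le_iff, ← img_top, img_img, hmu β hβ', img_top, below]
  exact Finset.le_sup (f := fun β => imageSubobject (μ hX 0 (deg (γ + α)) (mon a β)))
    (Finset.mem_filter.mpr ⟨mem_expts.mpr (by rw [deg_add, deg_add, hβ']), lex_add_lt hβ.2⟩)

theorem inf_sup_le_of_pre_eq {X₀ : C} {Y : C} (f : X₀ ⟶ Y) {M M' B : Subobject Y} (hle : M ≤ M')
    (hpre : pre f (M ⊔ B) = pre f (M' ⊔ B)) (hB : M' ⊓ B ≤ M) : M' ⊓ (imageSubobject f ⊔ B) ≤ M := by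
  have h1 : (M' ⊔ B) ⊓ imageSubobject f ≤ M ⊔ B := by
    rw [← img_pre, ← hpre]; exact (gc_img_pre f).l_u_le _
  have h2 : M' ⊓ (imageSubobject f ⊔ B) ≤ M ⊔ B := by
    calc M' ⊓ (imageSubobject f ⊔ B) ≤ (B ⊔ imageSubobject f) ⊓ (M' ⊔ B) := by
          rw [inf_comm, sup_comm]; exact inf_le_inf_left _ le_sup_left
      _ = B ⊔ imageSubobject f ⊓ (M' ⊔ B) := sup_inf_assoc_of_le _ le_sup_right
      _ ≤ M ⊔ B := sup_le le_sup_right (by rw [inf_comm]; exact h1)
  calc M' ⊓ (imageSubobject f ⊔ B) ≤ (M ⊔ B) ⊓ M' := le_inf h2 inf_le_left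
    _ = M ⊔ B ⊓ M' := sup_inf_assoc_of_le _ hle
    _ ≤ M := sup_le le_rfl (by rw [inf_comm]; exact hB)

theorem eq_of_lead_eq (hX : IsAdic J X) (hJ : J = Ideal.span (Set.range a))
    {M M' : (q : ℕ) → Subobject (X.obj (op q))} (hM' : IsGrSub J X M') (n : ℕ) (hle : M n ≤ M' n)
    (h : ∀ α, deg α = n → lead a hX M n α = lead a hX M' n α) : M n = M' n := by
  have key : ∀ s : Finset (Lex (Fin k → ℕ)), s ⊆ expts k n →
      (∀ x ∈ s, ∀ y ∈ expts k n, y < x → y ∈ s) →
      M' n ⊓ s.sup (fun β => imageSubobject (μ hX 0 n (mon a β))) ≤ M n := by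
    classical
    intro s
    induction s using Finset.induction_on_max with
    | empty => intro _ _; simp
    | insert b s hlt ih =>
      intro hsub hdown
      have hs : s = (expts k n).filter (· < b) := by
        ext y
        rw [Finset.mem_filter]
        refine ⟨fun hy => ⟨hsub (Finset.mem_insert_of_mem hy), hlt y hy⟩, fun ⟨hy, hyb⟩ => ?_⟩
        rcases Finset.mem_insert.mp (hdown b (Finset.mem_insert_self b s) y hy hyb) with rfl | h'
        · exact absurd hyb (lt_irrefl _)
        · exact h'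
      have hb := mem_expts.mp (hsub (Finset.mem_insert_self b s))
      have hih := ih (fun x hx => hsub (Finset.mem_insert_of_mem hx)) fun x hx y hy hyx => by
        rw [hs] at hx ⊢
        exact Finset.mem_filter.mpr ⟨hy, hyx.trans (Finset.mem_filter.mp hx).2⟩
      rw [Finset.sup_insert]
      rw [hs] at hih ⊢
      exact inf_sup_le_of_pre_eq _ hle (h b hb) hih
  refine le_antisymm hle (le_trans (le_inf le_rfl ?_) (key (expts k n) subset_rfl fun _ _ y hy _ => hy))
  have hFG : J.FG := by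
    rw [hJ]; exact Submodule.fg_span (Set.finite_range a)
  obtain ⟨S, hS⟩ := exists_isSmulSub (C := C) (Or.inl hFG) n (X.obj (op n))
  refine ((hM'.1 n).trans (Fsub_le_smulSub hX hS)).trans (hS.least _ fun c hc => ?_)
  rw [← mem_scalarsInto]
  have hgen : Ideal.span (mon a '' (expts k n : Set (Lex (Fin k → ℕ)))) ≤
      scalarsInto ((expts k n).sup fun β => imageSubobject (μ hX 0 n (mon a β))) := by
    refine Ideal.span_le.mpr ?_
    rintro _ ⟨β, hβ, rfl⟩
    rw [SetLike.mem_coe, mem_scalarsInto]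
    refine le_trans ?_ (Finset.le_sup (f := fun β => imageSubobject (μ hX 0 n (mon a β))) hβ)
    have hmem : mon a β ∈ J ^ (n - 0) := by
      rw [Nat.sub_zero, ← mem_expts.mp hβ]
      exact mon_mem a fun j => hJ ▸ Ideal.subset_span ⟨j, rfl⟩
    rw [← tr_μ hX (Nat.zero_le n) hmem]
    exact imageSubobject_comp_le _ _
  exact hgen (pow_le_span_mon a hJ n hc)

theorem eventually_constant_of_pwo {α L : Type*} [Preorder α] [PartialOrder L] [WellFoundedGT L]
    (hpwo : (Set.univ : Set α).IsPWO) (P : ℕ → α → L) (hP : ∀ {i j x y}, i ≤ j → x ≤ y → P i x ≤ P j y) :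
    ∃ i₀, ∀ i, i₀ ≤ i → ∀ x, P i x = P i₀ x := by
  by_contra hne
  push Not at hne
  choose f hf x hx using hne
  have hlt : ∀ i, i < f i := fun i => lt_of_le_of_ne (hf i) fun e => hx i (by rw [← e])
  let I : ℕ → ℕ := fun j => f^[j] 0
  have hI : ∀ j, I (j + 1) = f (I j) := fun j => Function.iterate_succ_apply' f j 0
  have hImono : Monotone I := monotone_nat_of_le_succ fun j => by rw [hI]; exact hf _
  obtain ⟨g, hg⟩ := hpwo.exists_monotone_subseq (f := fun j => x (I j)) fun _ => trivial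
  refine not_strictMono_of_wellFoundedGT (fun j => P (I (g j)) (x (I (g j)))) (strictMono_nat_of_lt_succ fun j => ?_)
  refine lt_of_lt_of_le (lt_of_le_of_ne (hP (hf (I (g j))) le_rfl) (Ne.symm (hx _)))
    (hP ?_ (hg (Nat.le_succ j)))
  rw [← hI]
  exact hImono (g.strictMono (Nat.lt_succ_self j))

/-- The strict graded object of an adic system with Noetherian degree zero is Noetherian. -/
theorem grSub_chain_stationary (hJ : J.FG) (hX : IsAdic J X) (h0 : IsNoetherianObject (X.obj (op 0)))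
    (M : ℕ → (q : ℕ) → Subobject (X.obj (op q))) (hM : ∀ i, IsGrSub J X (M i)) (hmono : Monotone M) :
    ∃ i₀ : ℕ, ∀ i : ℕ, i₀ ≤ i → M i = M i₀ := by
  haveI := h0
  obtain ⟨k, a, ha⟩ := Submodule.fg_iff_exists_fin_generating_family.mp hJ
  have ha' : J = Ideal.span (Set.range a) := ha.symm
  have hmem : ∀ j, a j ∈ J := fun j => ha' ▸ Ideal.subset_span ⟨j, rfl⟩
  let P : ℕ → (Fin k → ℕ) → Subobject (X.obj (op 0)) := fun i α => lead a hX (M i) (deg (toLex α)) (toLex α)
  obtain ⟨i₀, hi₀⟩ := eventually_constant_of_pwo (by simpa using (Set.IsPWO.pi (α := fun _ : Fin k => ℕ) (s := fun _ => Set.univ) fun _ => Set.IsPWO.of_linearOrder _)) P fun {i j x y} hij hxy => by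
    refine le_trans (pre_mono _ (sup_le_sup_right (hmono hij _) _)) ?_
    show lead a hX (M j) (deg (toLex x)) (toLex x) ≤ lead a hX (M j) (deg (toLex y)) (toLex y)
    have e : toLex y = toLex (y - x) + toLex x := by
      rw [← toLex_add]; congr 1; ext t; simp [Nat.sub_add_cancel (hxy t)]
    rw [e]
    exact lead_le_add a hX (hM j) hmem _ _
  refine ⟨i₀, fun i hi => funext fun n => (eq_of_lead_eq a hX ha' (hM i) n (hmono hi n) fun α hα => ?_).symm⟩
  subst hα
  exact (hi₀ i hi (ofLex α)).symm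

end Basis

end GrothLib.ARSys
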