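import Groth.Agent.Lib.ARSys.Graded

/-!
The category of systems that are `J`-adic up to translation with Noetherian components: chains of
strict subobjects, kernels and cokernels.
-/

set_option linter.style.haveILetI false
set_option linter.unusedSectionVars false

universe w v u

open CategoryTheory CategoryTheory.Limits Opposite ZeroObject

namespace GrothLib.ARSys

open _root_.ARSys

variable {C : Type u} [Category.{v} C] [Abelian C] {A : Type w} [CommRing A] [Linear A C] {J : Ideal A}

theorem pre_mono_bot {X Y : C} (f : X ⟶ Y) [Mono f] : pre f ⊥ = ⊥ := by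
  rw [eq_bot_iff, le_iff_factors]
  intro B x hx
  rw [factors_pre_iff, Subobject.bot_factors_iff_zero] at hx
  rw [Subobject.bot_factors_iff_zero, ← cancel_mono f, hx, zero_comp]

theorem pre_img_of_mono {X Y : C} (f : X ⟶ Y) [Mono f] (S : Subobject X) : pre f (img f S) = S := by
  rw [pre_img, kernelSubobject_eq_pre, pre_mono_bot, sup_bot_eq]

theorem strict_subobjects_stationary {X : PS C} (hJ : J.FG) (hX : IsAdic J X)
    (h0 : IsNoetherianObject (X.obj (op 0))) (Z : ℕ →o Subobject X)
    (hZ : ∀ k : ℕ, IsStrict ((Z k : Subobject X) : PS C)) : ∃ k₀ : ℕ, ∀ k : ℕ, k₀ ≤ k → Z k = Z k₀ := by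
  let S : ℕ → ∀ n, Subobject (X.obj (op n)) := fun k n => img ((Z k).arrow.app (op n)) ⊤
  have hS : ∀ k {m n : ℕ} (h : m ≤ n), img (tr X h) (S k n) = S k m := fun k {m n} h => by
    haveI := hZ k m n h
    show img _ (img _ ⊤) = img _ ⊤
    rw [img_img, ← tr_app (Z k).arrow, ← img_img, img_top_of_epi]
  have hmono : ∀ {i j : ℕ}, i ≤ j → ∀ n, S i n ≤ S j n := fun {i j} h n => by
    show img _ ⊤ ≤ img _ ⊤
    rw [← Subobject.ofLE_arrow (Z.monotone h), NatTrans.comp_app, ← img_img]
    exact img_mono _ le_top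
  have hA := adapted_of_adic (Or.inl hJ) hX
  obtain ⟨k₀, hk₀⟩ := grSub_chain_stationary hJ hX h0 (fun k q => Fsub X q q ⊓ S k q)
    (fun k => isGrSub_inf_strict hA (S k) (hS k)) fun i j h q => inf_le_inf_left _ (hmono h q)
  refine ⟨k₀, fun k hk => ?_⟩
  have key : ∀ n, S k₀ n = S k n := by
    intro n
    induction n with
    | zero =>
      have := congrFun (hk₀ k hk) 0
      simpa [Fsub] using this.symm
    | succ n ih =>
      refine eq_of_inf_ker_eq_of_img_eq (tr X (Nat.le_succ n)) (hmono hk _) ?_ ?_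
      · rw [← Fsub_succ X (Nat.le_succ n), inf_comm, inf_comm (S k (n + 1))]
        exact (congrFun (hk₀ k hk) (n + 1)).symm
      · rw [hS, hS, ih]
  haveI : ∀ n : ℕᵒᵖ, IsIso ((Subobject.ofLE _ _ (Z.monotone hk)).app n) := fun ⟨n⟩ => by
    have e : Subobject.mk ((Z k₀).arrow.app (op n)) = Subobject.mk ((Z k).arrow.app (op n)) := by
      rw [← imageSubobject_mono, ← imageSubobject_mono, ← img_top, ← img_top]
      exact key n
    have he : (Subobject.ofLE _ _ (Z.monotone hk)).app (op n) = (Subobject.isoOfMkEqMk _ _ e).hom := by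
      rw [← cancel_mono ((Z k).arrow.app (op n)), ← NatTrans.comp_app, Subobject.ofLE_arrow,
        Subobject.isoOfMkEqMk_hom, Subobject.ofMkLEMk_comp]
    rw [he]; infer_instance
  haveI := NatIso.isIso_of_isIso_app (Subobject.ofLE _ _ (Z.monotone hk))
  exact (Subobject.eq_of_comm (asIso (Subobject.ofLE _ _ (Z.monotone hk))) (Subobject.ofLE_arrow _)).symm

theorem finiteType_of_mono {K Y : PS C} (ι : K ⟶ Y) [Mono ι] (hK : IsStrict K) (hJ : J.FG)
    (hY : IsAdic J Y) (h0 : IsNoetherianObject (Y.obj (op 0))) : GrsFiniteType J K := by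
  intro M hM hmono hlub
  have hA := adapted_of_adic (Or.inl hJ) hY
  let M' : ℕ → (q : ℕ) → Subobject (Y.obj (op q)) := fun i q => img (ι.app (op q)) (M i q)
  have hM' : ∀ i, IsGrSub J Y (M' i) := fun i => by
    refine (isGrSub_iff _).mpr ⟨fun q => ?_, fun p q a ha => ?_⟩
    · rw [img_le_iff, pre_app_Fsub]; exact (hM i).1 q
    · haveI := hK q (p + q) (Nat.le_add_left q p)
      have e : img (tr Y (Nat.le_add_left q p))
          (img (ι.app (op (p + q))) (pre (tr K (Nat.le_add_left q p)) (M i q))) = M' i q := by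
        show _ = img _ _
        rw [img_img, ← tr_app ι, ← img_img, img_pre_of_epi]
      rw [← e, pre_img, img_sup, img_act_ker_eq_bot hA ha, sup_bot_eq, img_img, ← act_comm, ← img_img]
      exact img_mono _ (((isGrSub_iff _).mp (hM i)).2 p q a ha)
  obtain ⟨i₀, hi₀⟩ := grSub_chain_stationary hJ hY h0 M' hM' fun i j h q => img_mono _ (hmono h q)
  refine ⟨i₀, fun q => le_antisymm ((hlub q).1 ⟨i₀, rfl⟩) ((hlub q).2 ?_)⟩
  rintro _ ⟨i, rfl⟩
  refine (hmono (le_max_left i i₀) q).trans (le_of_eq ?_)
  have h := congrArg (pre (ι.app (op q))) (congrFun (hi₀ (max i i₀) (le_max_right _ _)) q)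
  simpa only [M', pre_img_of_mono] using h

theorem noeth_of_arIso {X Y : PS C} {u : X ⟶ Y} (hu : IsARIso u) (hX : IsStrict X)
    (hY : ∀ n, IsNoetherianObject (Y.obj (op n))) (n : ℕ) : IsNoetherianObject (X.obj (op n)) := by
  obtain ⟨i⟩ := exists_arInv hu
  haveI := epi_v i hX (le_refl (n + i.r))
  haveI := hY (n + i.r)
  exact noeth_of_epi (i.v (le_refl (n + i.r)))

theorem arAdicNoeth_X₁ (hJ : J.FG) {S : ShortComplex (PS C)} (hS : S.ShortExact)
    (h₂ : IsARAdicNoeth J S.X₂) (h₃ : IsARAdic J S.X₃) : IsARAdicNoeth J S.X₁ := by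
  haveI : Epi S.g := hS.epi_g
  haveI : Mono S.f := hS.mono_f
  obtain ⟨⟨k₂, Y, u, hY, hu⟩, hn₂⟩ := h₂
  refine ⟨?_, fun n => ?_⟩
  swap
  · haveI := hn₂ n
    exact isNoetherianObject_of_mono (S.f.app (op n))
  have k₁ : TermKilled J S.X₁ := termKilled_of_mono S.f k₂
  let g := u ≫ S.g
  have h0 : (kernel.ι g ≫ u) ≫ S.g = 0 := by rw [Category.assoc, kernel.condition]
  have hkk : IsARIso (hS.exact.lift _ h0) :=
    arIso_kernel_side hS (kernel.ι g) g (kernel.condition g) (ShortComplex.exact_kernel g) _ u (𝟙 S.X₃)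
      (hS.exact.lift_f _ _).symm (Category.comp_id _) hu (arIso_of_isIso _)
  have hι : IsARIso (Abelian.image.ι g) := by
    refine arIso_of_mono _ ?_
    have h1 : IsARNull (cokernel g) :=
      (Null C).epiModSerre.comp_mem u S.g hu.2 ((Null C).epiModSerre_of_epi _)
    have hz : g ≫ cokernel.π (Abelian.image.ι g) = 0 := by
      conv_lhs => arg 1; rw [← Abelian.image.fac g]
      rw [Category.assoc, cokernel.condition, comp_zero]
    haveI : Epi (cokernel.desc g (cokernel.π (Abelian.image.ι g)) hz) :=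
      epi_of_epi_fac (cokernel.π_desc g _ hz)
    exact null_of_epi (cokernel.desc g (cokernel.π (Abelian.image.ι g)) hz) h1
  have hI : IsARAdic J (Abelian.image g) :=
    arAdic_of_arIso_bwd hι (termKilled_of_mono (Abelian.image.ι g) h₃.1) h₃
  let T : ShortComplex (PS C) := ShortComplex.mk (kernel.ι g) (Abelian.factorThruImage g)
    (zero_of_comp_mono (Abelian.image.ι g) (by rw [Category.assoc, Abelian.image.fac, kernel.condition]))
  have hT : T.ShortExact :=
    { exact := by
        rw [ShortComplex.exact_iff_exact_up_to_refinements]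
        intro B x hx
        have hx' : x ≫ g = 0 := by
          rw [← Abelian.image.fac g]
          exact (Category.assoc _ _ _).symm.trans ((congrArg (· ≫ Abelian.image.ι g) hx).trans zero_comp)
        exact ⟨B, 𝟙 B, inferInstance, kernel.lift g x hx', by simp [T]⟩
      mono_f := inferInstanceAs (Mono (kernel.ι g))
      epi_g := inferInstanceAs (Epi (Abelian.factorThruImage g)) }
  obtain ⟨K', κ, hκm, hK', hκ⟩ :=
    exists_strict_sub (isMLAR_X₁ hT hY.1 (isMLAR_of_strict (isStrict_of_isAdic hY)) hI)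
  haveI := hκm
  let m := κ ≫ kernel.ι g
  haveI : Mono m := mono_comp _ _
  have hn := noeth_of_arIso hu (isStrict_of_isAdic hY) hn₂ 0
  have hKad : IsARAdic J K' := arAdic_of_adapted_finiteType (Or.inl hJ) hK'
    (adapted_of_mono m (adapted_of_adic (Or.inl hJ) hY)) (finiteType_of_mono m hK' hJ hY hn)
  exact arAdic_of_arIso_fwd (arIso_comp hκ hkk) hKad k₁

theorem arAdicNoeth_ker_coker (hJ : J.FG) {X Y : PS C} (u : X ⟶ Y) (hX : IsARAdicNoeth J X)
    (hY : IsARAdicNoeth J Y) : IsARAdicNoeth J (kernel u) ∧ IsARAdicNoeth J (cokernel u) := by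
  have hI : IsMLAR (Abelian.image u) := isMLAR_of_epi (Abelian.factorThruImage u) (isMLAR_of_arAdic hX.1)
  let T : ShortComplex (PS C) := ShortComplex.mk (Abelian.image.ι u) (cokernel.π u) (kernel.condition _)
  have hT : T.ShortExact :=
    { exact := ShortComplex.exact_kernel (cokernel.π u)
      mono_f := inferInstanceAs (Mono (Abelian.image.ι u))
      epi_g := inferInstanceAs (Epi (cokernel.π u)) }
  have hc : IsARAdic J (cokernel u) := arAdic_X₃ hT (termKilled_of_epi (cokernel.π u) hY.1.1) hI hY.1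
  have hI' : IsARAdicNoeth J (Abelian.image u) := arAdicNoeth_X₁ hJ hT hY hc
  refine ⟨?_, hc, fun n => ?_⟩
  swap
  · haveI := hY.2 n
    exact noeth_of_epi ((cokernel.π u).app (op n))
  let U : ShortComplex (PS C) := ShortComplex.mk (kernel.ι u) (Abelian.factorThruImage u)
    (zero_of_comp_mono (Abelian.image.ι u) (by rw [Category.assoc, Abelian.image.fac, kernel.condition]))
  have hU : U.ShortExact :=
    { exact := by
        rw [ShortComplex.exact_iff_exact_up_to_refinements]
        intro B x hx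
        have hx' : x ≫ u = 0 := by
          rw [← Abelian.image.fac u]
          exact (Category.assoc _ _ _).symm.trans ((congrArg (· ≫ Abelian.image.ι u) hx).trans zero_comp)
        exact ⟨B, 𝟙 B, inferInstance, kernel.lift u x hx', by simp [U]⟩
      mono_f := inferInstanceAs (Mono (kernel.ι u))
      epi_g := inferInstanceAs (Epi (Abelian.factorThruImage u)) }
  exact arAdicNoeth_X₁ hJ hU hX hI'.1

end GrothLib.ARSys
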