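import Groth.Agent.Lib.ARSys.Basic
import Mathlib.RingTheory.Noetherian.Basic
import Mathlib.RingTheory.Finiteness.Ideal

/-!
Quotients modulo an ideal in a linear category and `J`-adic systems.
-/

universe w v u

open CategoryTheory CategoryTheory.Limits Opposite

namespace GrothLib.ARSys

open _root_.ARSys

variable {C : Type u} [Category.{v} C] [Abelian C] {A : Type w} [CommRing A] [Linear A C]

theorem killedBy_mono {I I' : Ideal A} (h : I' ≤ I) {X : C} (hX : KilledBy I X) : KilledBy I' X :=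
  fun a ha => hX a (h ha)

theorem killedBy_of_mono {I : Ideal A} {X Y : C} (f : X ⟶ Y) [Mono f] (hY : KilledBy I Y) : KilledBy I X := by
  intro a ha
  rw [← cancel_mono f, zero_comp, Linear.smul_comp, Category.id_comp]
  simpa using congrArg (f ≫ ·) (hY a ha)

theorem killedBy_of_epi {I : Ideal A} {X Y : C} (f : X ⟶ Y) [Epi f] (hX : KilledBy I X) : KilledBy I Y := by
  intro a ha
  rw [← cancel_epi f, comp_zero, Linear.comp_smul, Category.comp_id]
  simpa using congrArg (· ≫ f) (hX a ha)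

theorem homKilledBy_of_tgt {I : Ideal A} {X Y : C} (hY : KilledBy I Y) (φ : X ⟶ Y) : HomKilledBy I φ := by
  intro a ha
  simpa using congrArg (φ ≫ ·) (hY a ha)

theorem homKilledBy_of_src {I : Ideal A} {X Y : C} (hX : KilledBy I X) (φ : X ⟶ Y) : HomKilledBy I φ := by
  intro a ha
  simpa using congrArg (· ≫ φ) (hX a ha)

theorem homKilledBy_precomp {I : Ideal A} {W X Y : C} {φ : X ⟶ Y} (h : HomKilledBy I φ) (g : W ⟶ X) :
    HomKilledBy I (g ≫ φ) := fun a ha => by rw [← Linear.comp_smul, h a ha, comp_zero]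

theorem homKilledBy_postcomp {I : Ideal A} {X Y Z : C} {φ : X ⟶ Y} (h : HomKilledBy I φ) (g : Y ⟶ Z) :
    HomKilledBy I (φ ≫ g) := fun a ha => by rw [← Linear.smul_comp, h a ha, zero_comp]

theorem homKilledBy_of_epi_comp {I : Ideal A} {W X Y : C} (e : W ⟶ X) [Epi e] {φ : X ⟶ Y}
    (h : HomKilledBy I (e ≫ φ)) : HomKilledBy I φ := fun a ha => by
  rw [← cancel_epi e, comp_zero, Linear.comp_smul, h a ha]

theorem homKilledBy_mono {I I' : Ideal A} (h : I' ≤ I) {X Y : C} {φ : X ⟶ Y} (hφ : HomKilledBy I φ) :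
    HomKilledBy I' φ := fun a ha => hφ a (h ha)

theorem killedBy_biprod {I : Ideal A} {X Y : C} (hX : KilledBy I X) (hY : KilledBy I Y) : KilledBy I (X ⊞ Y) := by
  intro a ha
  apply biprod.hom_ext
  · rw [Linear.smul_comp, zero_comp, Category.id_comp]
    exact homKilledBy_of_tgt hX _ a ha
  · rw [Linear.smul_comp, zero_comp, Category.id_comp]
    exact homKilledBy_of_tgt hY _ a ha

namespace IsQuot

variable {I : Ideal A} {X Q : C} {p : X ⟶ Q}

theorem epi (h : IsQuot I p) : Epi p := by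
  refine Preadditive.epi_of_cancel_zero p fun {R} ψ hψ => ?_
  obtain ⟨χ, -, huniq⟩ := h.2 R (0 : X ⟶ R) (fun a _ => smul_zero a)
  rw [huniq ψ hψ, huniq 0 (comp_zero)]

theorem exists_desc (h : IsQuot I p) {Y : C} (φ : X ⟶ Y) (hφ : HomKilledBy I φ) :
    ∃ ψ : Q ⟶ Y, p ≫ ψ = φ := (h.2 Y φ hφ).exists

/-- The factorisation through a quotient map. -/
noncomputable def desc (h : IsQuot I p) {Y : C} (φ : X ⟶ Y) (hφ : HomKilledBy I φ) : Q ⟶ Y :=
  (exists_desc h φ hφ).choose

theorem fac (h : IsQuot I p) {Y : C} (φ : X ⟶ Y) (hφ : HomKilledBy I φ) : p ≫ desc h φ hφ = φ :=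
  (exists_desc h φ hφ).choose_spec

theorem subLE_ker (h : IsQuot I p) : SubLEIdeal I (kernelSubobject p) := by
  intro Y φ hφ
  rw [← fac h φ hφ, ← Category.assoc, kernelSubobject_arrow_comp, zero_comp]

end IsQuot

theorem desc_of_ker_le {X Q Y : C} (p : X ⟶ Q) [Epi p] (φ : X ⟶ Y)
    (h : (kernelSubobject p).arrow ≫ φ = 0) : ∃! ψ : Q ⟶ Y, p ≫ ψ = φ := by
  have hex : (ShortComplex.mk (kernelSubobject p).arrow p (kernelSubobject_arrow_comp p)).Exact := by
    rw [ShortComplex.exact_iff_exact_up_to_refinements]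
    intro T x hx
    exact ⟨T, 𝟙 T, inferInstance, factorThruKernelSubobject p x hx, by simp⟩
  have : Epi (ShortComplex.mk (kernelSubobject p).arrow p (kernelSubobject_arrow_comp p)).g := by
    dsimp; infer_instance
  exact ⟨hex.desc φ h, hex.g_desc _ h, fun y hy => by
    rw [← cancel_epi p, hy]; exact (hex.g_desc _ h).symm⟩

theorem isQuot_of_epi {I : Ideal A} {X Q : C} (p : X ⟶ Q) [Epi p] (hQ : KilledBy I Q)
    (h : SubLEIdeal I (kernelSubobject p)) : IsQuot I p :=
  ⟨hQ, fun Y φ hφ => desc_of_ker_le p φ (h Y φ hφ)⟩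

theorem isQuot_id {I : Ideal A} {X : C} (hX : KilledBy I X) : IsQuot I (𝟙 X) :=
  ⟨hX, fun _ φ _ => ⟨φ, Category.id_comp φ, fun y hy => by simpa using hy⟩⟩

/-- A quotient modulo `I'` followed by a quotient modulo a larger ideal. -/
theorem isQuot_comp {I I' : Ideal A} (hI : I' ≤ I) {X Q R : C} {p : X ⟶ Q} {q : Q ⟶ R}
    (hp : IsQuot I' p) (hq : IsQuot I q) : IsQuot I (p ≫ q) := by
  haveI := IsQuot.epi hp
  haveI := IsQuot.epi hq
  refine ⟨hq.1, fun Y φ hφ => ?_⟩
  have h1 := IsQuot.fac hp φ (homKilledBy_mono hI hφ)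
  have h2 : HomKilledBy I (IsQuot.desc hp φ (homKilledBy_mono hI hφ)) :=
    homKilledBy_of_epi_comp p (by rw [h1]; exact hφ)
  refine ⟨IsQuot.desc hq _ h2, (Category.assoc _ _ _).trans (by rw [IsQuot.fac hq _ h2, h1]), fun y hy => ?_⟩
  rw [← cancel_epi (p ≫ q), hy, Category.assoc, IsQuot.fac hq _ h2, h1]

/-- The second map of a composite quotient map whose first map is epi. -/
theorem isQuot_of_comp {I : Ideal A} {X Q R : C} {p : X ⟶ Q} {q : Q ⟶ R} [Epi p]
    (h : IsQuot I (p ≫ q)) : IsQuot I q := by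
  haveI : Epi (p ≫ q) := IsQuot.epi h
  haveI : Epi q := epi_of_epi p q
  refine ⟨h.1, fun Y φ hφ => ?_⟩
  obtain ⟨ψ, hψ, -⟩ := h.2 Y (p ≫ φ) (homKilledBy_precomp hφ p)
  refine ⟨ψ, by rwa [Category.assoc, cancel_epi] at hψ, fun y hy => ?_⟩
  rw [← cancel_epi (p ≫ q), hψ, Category.assoc, hy]

theorem subLE_of_le {I : Ideal A} {X : C} {S T : Subobject X} (h : S ≤ T) (hT : SubLEIdeal I T) :
    SubLEIdeal I S := fun Y φ hφ => by
  rw [← Subobject.ofLE_arrow h, Category.assoc, hT Y φ hφ, comp_zero]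

theorem subLE_ideal_mono {I I' : Ideal A} (h : I ≤ I') {X : C} {S : Subobject X} (hS : SubLEIdeal I S) :
    SubLEIdeal I' S := fun Y φ hφ => hS Y φ (homKilledBy_mono h hφ)

theorem subLE_top_ideal {X : C} (S : Subobject X) : SubLEIdeal (⊤ : Ideal A) S := fun Y φ hφ => by
  have := hφ 1 Submodule.mem_top
  rw [one_smul] at this
  rw [this, comp_zero]

theorem subLE_sup {I : Ideal A} {X : C} {S T : Subobject X} (hS : SubLEIdeal I S) (hT : SubLEIdeal I T) :
    SubLEIdeal I (S ⊔ T) := fun Y φ hφ => by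
  have h : S ⊔ T ≤ kernelSubobject φ :=
    sup_le (le_kernelSubobject _ _ (hS Y φ hφ)) (le_kernelSubobject _ _ (hT Y φ hφ))
  rw [← Subobject.ofLE_arrow h, Category.assoc, kernelSubobject_arrow_comp, comp_zero]

theorem subLE_img {I : Ideal A} {X Y : C} (f : X ⟶ Y) {S : Subobject X} (hS : SubLEIdeal I S) :
    SubLEIdeal I (img f S) := fun Z φ hφ => by
  have h : img f S ≤ kernelSubobject φ := by
    rw [kernelSubobject_eq_pre, img_le_iff, pre_pre, ← kernelSubobject_eq_pre]
    exact le_kernelSubobject _ _ (hS Z _ (homKilledBy_precomp hφ f))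
  rw [← Subobject.ofLE_arrow h, Category.assoc, kernelSubobject_arrow_comp, comp_zero]

section Existence

/-- Multiplication by `a` on `X`. -/
abbrev act (a : A) (X : C) : X ⟶ X := a • 𝟙 X

/-- `M` is the subobject `I X`: the least subobject containing all `a X`, `a ∈ I`. -/
structure IsSmulSub (I : Ideal A) {X : C} (M : Subobject X) : Prop where
  le : ∀ a ∈ I, imageSubobject (act a X) ≤ M
  least : ∀ T : Subobject X, (∀ a ∈ I, imageSubobject (act a X) ≤ T) → M ≤ T

theorem imageSubobject_le_iff {X Y : C} (f : X ⟶ Y) (T : Subobject Y) : imageSubobject f ≤ T ↔ T.Factors f := by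
  constructor
  · intro h
    have := imageSubobject_factors_comp_self f (𝟙 X)
    rw [Category.id_comp] at this
    exact Subobject.factors_of_le _ h this
  · intro h
    exact imageSubobject_le f (T.factorThru f h) (Subobject.factorThru_arrow _ _ _)

/-- The ideal of scalars mapping `X` into `T`. -/
def scalarsInto {X : C} (T : Subobject X) : Ideal A where
  carrier := {a | T.Factors (act a X)}
  zero_mem' := by simp [act, Subobject.factors_zero]
  add_mem' := fun {a b} ha hb => by
    show T.Factors (act (a + b) X)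
    rw [act, add_smul]
    exact Subobject.factors_add _ _ ha hb
  smul_mem' := fun r a ha => by
    show T.Factors (act (r • a) X)
    have : act (r • a) X = act r X ≫ act a X := by
      simp [act, smul_eq_mul, mul_smul, smul_comm r a]
    rw [this]
    exact Subobject.factors_of_factors_right _ ha

theorem mem_scalarsInto {X : C} (T : Subobject X) (a : A) :
    a ∈ scalarsInto T ↔ imageSubobject (act a X) ≤ T := (imageSubobject_le_iff _ _).symm

theorem isSmulSub_finset (s : Finset A) (X : C) :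
    IsSmulSub (Ideal.span (s : Set A)) (s.sup fun a => imageSubobject (act a X)) := by
  refine ⟨fun a ha => ?_, fun T hT => Finset.sup_le fun a ha => hT a (Ideal.subset_span ha)⟩
  rw [← mem_scalarsInto]
  have hle : Ideal.span (s : Set A) ≤ scalarsInto (s.sup fun a => imageSubobject (act a X)) := by
    refine Ideal.span_le.mpr fun b hb => ?_
    rw [SetLike.mem_coe, mem_scalarsInto]
    exact Finset.le_sup (f := fun a => imageSubobject (act a X)) hb
  exact hle ha

theorem exists_isSmulSub_of_fg {I : Ideal A} (hI : I.FG) (X : C) : ∃ M : Subobject X, IsSmulSub I M := by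
  obtain ⟨s, rfl⟩ := hI
  exact ⟨_, isSmulSub_finset s X⟩

theorem exists_isSmulSub_of_coproducts [HasCoproducts.{w} C] (I : Ideal A) (X : C) :
    ∃ M : Subobject X, IsSmulSub I M := by
  refine ⟨imageSubobject (Sigma.desc fun a : I => act (a : A) X), fun a ha => ?_, fun T hT => ?_⟩
  · rw [imageSubobject_le_iff, factors_imageSubobject_iff]
    exact ⟨X, 𝟙 X, inferInstance, Sigma.ι (fun _ : I => X) ⟨a, ha⟩, by simp⟩
  · refine imageSubobject_le _ (Sigma.desc fun a : I => T.factorThru (act (a : A) X)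
      ((imageSubobject_le_iff _ _).mp (hT a a.2))) ?_
    ext a; simp

theorem exists_isSmulSub {J : Ideal A} (hJ : J.FG ∨ HasCoproducts.{w} C) (n : ℕ) (X : C) :
    ∃ M : Subobject X, IsSmulSub (J ^ n) M := by
  rcases hJ with h | h
  · exact exists_isSmulSub_of_fg (Ideal.FG.pow h) X
  · exact exists_isSmulSub_of_coproducts _ X

variable {I : Ideal A} {X : C} {M : Subobject X}

theorem IsSmulSub.homKilled_iff (hM : IsSmulSub I M) {Y : C} (φ : X ⟶ Y) :
    HomKilledBy I φ ↔ M.arrow ≫ φ = 0 := by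
  have key : ∀ a : A, (kernelSubobject φ).Factors (act a X) ↔ a • φ = 0 := fun a => by
    rw [kernelSubobject_factors_iff]; simp [act]
  constructor
  · intro h
    have hle : M ≤ kernelSubobject φ :=
      hM.least _ fun a ha => (imageSubobject_le_iff _ _).mpr ((key a).mpr (h a ha))
    rw [← Subobject.ofLE_arrow hle, Category.assoc, kernelSubobject_arrow_comp, comp_zero]
  · intro h a ha
    exact (key a).mp ((imageSubobject_le_iff _ _).mp ((hM.le a ha).trans (le_kernelSubobject _ _ h)))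

theorem IsSmulSub.isQuot (hM : IsSmulSub I M) : IsQuot I (cokernel.π M.arrow) := by
  refine ⟨fun a ha => ?_, fun Y φ hφ => ⟨cokernel.desc _ φ ((hM.homKilled_iff φ).mp hφ),
    cokernel.π_desc _ _ _, fun y hy => by rw [← cancel_epi (cokernel.π M.arrow), hy, cokernel.π_desc]⟩⟩
  rw [← cancel_epi (cokernel.π M.arrow), comp_zero, Linear.comp_smul, Category.comp_id]
  exact (hM.homKilled_iff _).mpr (cokernel.condition _) a ha

theorem IsSmulSub.subLE_iff (hM : IsSmulSub I M) (S : Subobject X) : SubLEIdeal I S ↔ S ≤ M := by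
  constructor
  · intro h
    have h0 := h _ (cokernel.π M.arrow) ((hM.homKilled_iff _).mpr (cokernel.condition _))
    have hex : (ShortComplex.mk M.arrow (cokernel.π M.arrow) (cokernel.condition _)).Exact :=
      ShortComplex.exact_cokernel M.arrow
    haveI : Mono (ShortComplex.mk M.arrow (cokernel.π M.arrow) (cokernel.condition _)).f := by
      dsimp; infer_instance
    exact Subobject.le_of_comm (hex.lift S.arrow h0) (hex.lift_f S.arrow h0)
  · intro h Y φ hφ
    rw [← Subobject.ofLE_arrow h, Category.assoc, (hM.homKilled_iff φ).mp hφ, comp_zero]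

theorem IsSmulSub.eq_bot (hM : IsSmulSub I M) (hX : KilledBy I X) : M = ⊥ := by
  rw [eq_bot_iff]
  refine hM.least _ fun a ha => ?_
  rw [imageSubobject_le_iff, Subobject.bot_factors_iff_zero]
  exact hX a ha

theorem IsSmulSub.img_le (hM : IsSmulSub I M) {Y : C} {N : Subobject Y} (hN : IsSmulSub I N) (f : X ⟶ Y) :
    img f M ≤ N :=
  (hN.subLE_iff _).mp (subLE_img f ((hM.subLE_iff M).mpr le_rfl))

theorem IsSmulSub.img_of_epi (hM : IsSmulSub I M) {Y : C} {N : Subobject Y} (hN : IsSmulSub I N)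
    (f : X ⟶ Y) [Epi f] : img f M = N := by
  refine le_antisymm (hM.img_le hN f) (hN.least _ fun a ha => ?_)
  rw [← img_top, ← img_top_of_epi f, img_img, show f ≫ act a Y = act a X ≫ f by simp [act], ← img_img, img_top]
  exact img_mono f (hM.le a ha)

end Existence

section Adic

variable {J : Ideal A}

theorem pow_succ_le {n m : ℕ} (h : n ≤ m) : J ^ (m + 1) ≤ J ^ (n + 1) :=
  Ideal.pow_le_pow_right (Nat.add_le_add_right h 1)

theorem adic_epi {X : PS C} (hX : IsAdic J X) {n m : ℕ} (h : n ≤ m) : Epi (tr X h) :=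
  IsQuot.epi (hX.2 n m h)

theorem isStrict_of_isAdic {X : PS C} (hX : IsAdic J X) : IsStrict X := fun _ _ h => adic_epi hX h

theorem termKilled_of_mono {X Y : PS C} (u : X ⟶ Y) [Mono u] (hY : TermKilled J Y) : TermKilled J X :=
  fun n => killedBy_of_mono (u.app (op n)) (hY n)

theorem termKilled_of_epi {X Y : PS C} (u : X ⟶ Y) [Epi u] (hX : TermKilled J X) : TermKilled J Y :=
  fun n => killedBy_of_epi (u.app (op n)) (hX n)

theorem shift_hom_unique {X Y : PS C} (hX : IsStrict X) (r : ℕ) (g g' : X ⟶ Y)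
    (h : ∀ n : ℕ, shiftMap X r n ≫ g.app (op n) = shiftMap X r n ≫ g'.app (op n)) : g = g' := by
  refine hom_ext' fun n => ?_
  haveI := hX n (n + r) (Nat.le_add_right n r)
  exact (cancel_epi (tr X (Nat.le_add_right n r))).mp (h n)

theorem existsUnique_hom_of_shift {X Y : PS C} (hX : IsAdic J X) (hY : TermKilled J Y) (r : ℕ)
    (f : (shift C r).obj X ⟶ Y) :
    ∃! g : X ⟶ Y, ∀ n : ℕ, f.app (op n) = shiftMap X r n ≫ g.app (op n) := by
  let fa : ∀ n, X.obj (op (n + r)) ⟶ Y.obj (op n) := fun n => f.app (op n)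
  let g : ∀ n, X.obj (op n) ⟶ Y.obj (op n) := fun n =>
    IsQuot.desc (hX.2 n (n + r) (Nat.le_add_right n r)) (fa n) (homKilledBy_of_tgt (hY n) _)
  have hg : ∀ n, tr X (Nat.le_add_right n r) ≫ g n = fa n := fun n => IsQuot.fac _ _ _
  have hnat : ∀ (a b : ℕ) (hab : a ≤ b), tr X hab ≫ g a = g b ≫ tr Y hab := by
    intro a b hab
    haveI := adic_epi hX (Nat.le_add_right b r)
    rw [← cancel_epi (tr X (Nat.le_add_right b r)), ← Category.assoc, tr_tr,
      ← tr_tr X (Nat.le_add_right a r) (Nat.add_le_add_right hab r), Category.assoc, hg, ← Category.assoc, hg]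
    exact tr_app f hab
  exact ⟨mkHom g hnat, fun n => (hg n).symm, fun g' hg' =>
    shift_hom_unique (isStrict_of_isAdic hX) r g' _ fun n => (hg' n).symm.trans (hg n).symm⟩

end Adic

end GrothLib.ARSys
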