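import Groth.Agent.Lib.ARSys.Quot

/-!
The uniform Mittag-Leffler condition, universal images, strict subsystems.
-/

universe w v u

open CategoryTheory CategoryTheory.Limits Opposite

namespace GrothLib.ARSys

open _root_.ARSys

variable {C : Type u} [Category.{v} C] [Abelian C]

/-- The image of `X_b ⟶ X_a`. -/
noncomputable def imT (X : PS C) {a b : ℕ} (h : a ≤ b) : Subobject (X.obj (op a)) :=
  imageSubobject (tr X h)

theorem imT_def (X : PS C) {a b : ℕ} (h : a ≤ b) : imT X h = img (tr X h) ⊤ := (img_top _).symm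

theorem imT_anti (X : PS C) {a b c : ℕ} (h : a ≤ b) (h' : b ≤ c) : imT X (h.trans h') ≤ imT X h := by
  rw [imT_def, imT_def, ← tr_tr X h h', ← img_img]
  exact img_mono _ le_top

theorem img_imT (X : PS C) {a b c : ℕ} (h : a ≤ b) (h' : b ≤ c) :
    img (tr X h) (imT X h') = imT X (h.trans h') := by
  rw [imT_def, imT_def, img_img, tr_tr]

theorem isMLAR_iff (X : PS C) :
    IsMLAR X ↔ ∃ r : ℕ, ∀ {a b : ℕ} (h : a + r ≤ b),
      imT X ((Nat.le_add_right a r).trans h) = imT X (Nat.le_add_right a r) := by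
  constructor
  · rintro ⟨r, hr⟩
    refine ⟨r, fun {a b} h => ?_⟩
    obtain ⟨s, rfl⟩ : ∃ s, b = a + s := ⟨b - a, by omega⟩
    exact hr s (by omega) a
  · rintro ⟨r, hr⟩
    exact ⟨r, fun s hs n => hr (Nat.add_le_add_left hs n)⟩

theorem imT_of_strict {X : PS C} (hX : IsStrict X) {a b : ℕ} (h : a ≤ b) : imT X h = ⊤ := by
  haveI := hX a b h
  rw [imT_def, img_top_of_epi]

theorem isMLAR_of_strict {X : PS C} (hX : IsStrict X) : IsMLAR X :=
  (isMLAR_iff X).mpr ⟨0, fun _ => by rw [imT_of_strict hX, imT_of_strict hX]⟩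

theorem isMLAR_of_epi {X Y : PS C} (g : X ⟶ Y) [Epi g] (hX : IsMLAR X) : IsMLAR Y := by
  obtain ⟨r, hr⟩ := (isMLAR_iff X).mp hX
  refine (isMLAR_iff Y).mpr ⟨r, fun {a b} h => ?_⟩
  have key : ∀ {b : ℕ} (h : a ≤ b), imT Y h = img (g.app (op a)) (imT X h) := fun {b} h => by
    rw [imT_def, imT_def, img_img, tr_app g, ← img_img, img_top_of_epi (g.app (op b))]
  rw [key, key, hr h]

variable {X Y : PS C} {u : X ⟶ Y}

theorem img_imT_le (u : X ⟶ Y) {a b : ℕ} (h : a ≤ b) : img (u.app (op a)) (imT X h) ≤ imT Y h := by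
  rw [imT_def, imT_def, img_img, tr_app u, ← img_img]
  exact img_mono _ le_top

theorem imT_le_img (i : ARInv u) {a c b : ℕ} (h : a ≤ c) (h' : c + i.r ≤ b) :
    imT Y (h.trans ((Nat.le_add_right c i.r).trans h')) ≤ img (u.app (op a)) (imT X h) := by
  have e : tr Y (h.trans ((Nat.le_add_right c i.r).trans h')) = i.v h' ≫ tr X h ≫ u.app (op a) := by
    rw [tr_app u, ← Category.assoc, i.v_u, tr_tr]
  rw [imT_def, imT_def, img_img, e, ← img_img (i.v h')]
  exact img_mono _ le_top

theorem isMLAR_of_arIso (hu : IsARIso u) (hX : IsMLAR X) : IsMLAR Y := by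
  obtain ⟨i⟩ := exists_arInv hu
  obtain ⟨r, hr⟩ := (isMLAR_iff X).mp hX
  refine (isMLAR_iff Y).mpr ⟨r + i.r, fun {a b} h => le_antisymm (imT_anti Y _ h) ?_⟩
  calc imT Y (Nat.le_add_right a (r + i.r)) ≤ img (u.app (op a)) (imT X (Nat.le_add_right a r)) :=
        imT_le_img i (Nat.le_add_right a r) (by omega)
    _ = img (u.app (op a)) (imT X ((Nat.le_add_right a (r + i.r)).trans h)) := by
        rw [hr (show a + r ≤ b by omega)]
    _ ≤ _ := img_imT_le u _

theorem isMLAR_of_arIso_tgt (hu : IsARIso u) (hY : IsMLAR Y) : IsMLAR X := by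
  obtain ⟨i⟩ := exists_arInv hu
  obtain ⟨r, hr⟩ := (isMLAR_iff Y).mp hY
  refine (isMLAR_iff X).mpr ⟨r + i.r, fun {a b} h => le_antisymm (imT_anti X _ h) ?_⟩
  -- both sides are images of images in `Y`
  have hab : a + i.r + r ≤ b := by omega
  have e1 : tr X (Nat.le_add_right a (r + i.r)) =
      u.app (op (a + (r + i.r))) ≫ tr Y (show a + i.r ≤ a + (r + i.r) by omega) ≫ i.v le_rfl := by
    rw [i.tr_v, i.u_v]
  have hb : b ≤ b + i.r := Nat.le_add_right _ _
  have e2 : tr Y (show a + i.r ≤ b + i.r by omega) ≫ i.v (le_refl (a + i.r)) =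
      i.v (le_refl (b + i.r)) ≫ tr X ((Nat.le_add_right a (r + i.r)).trans h) := by
    rw [i.tr_v, i.v_tr]
  rw [imT_def, e1, ← img_img, ← img_img]
  refine le_trans (img_mono _ (img_mono _ le_top)) ?_
  rw [← imT_def]
  have eA : imT Y (show a + i.r ≤ a + (r + i.r) by omega) = imT Y (show a + i.r ≤ b + i.r by omega) := by
    have h1 := hr (show a + i.r + r ≤ a + (r + i.r) by omega)
    have h2 := hr (show a + i.r + r ≤ b + i.r by omega)
    exact h1.trans h2.symm
  rw [eA, imT_def, img_img, e2, ← img_img, imT_def]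
  exact img_mono _ le_top

/-- A levelwise family of subobjects, stable under transition maps, as a subsystem. -/
noncomputable def subsys (X : PS C) (S : ∀ n : ℕ, Subobject (X.obj (op n)))
    (hS : ∀ {a b : ℕ} (h : a ≤ b), img (tr X h) (S b) ≤ S a) : PS C where
  obj n := S n.unop
  map {a b} φ := (S b.unop).factorThru ((S a.unop).arrow ≫ X.map φ)
    (Subobject.factors_of_le _ (hS (leOfHom φ.unop)) (factors_img (tr X (leOfHom φ.unop)) (Subobject.factors_self _)))
  map_id a := by
    apply Subobject.eq_of_comp_arrow_eq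
    simp
  map_comp {a b c} φ ψ := by
    apply Subobject.eq_of_comp_arrow_eq
    simp

/-- The inclusion of a subsystem. -/
noncomputable def subsysι (X : PS C) (S : ∀ n : ℕ, Subobject (X.obj (op n)))
    (hS : ∀ {a b : ℕ} (h : a ≤ b), img (tr X h) (S b) ≤ S a) : subsys X S hS ⟶ X where
  app n := (S n.unop).arrow
  naturality a b φ := by simp [subsys]

instance mono_subsysι (X : PS C) (S : ∀ n : ℕ, Subobject (X.obj (op n)))
    (hS : ∀ {a b : ℕ} (h : a ≤ b), img (tr X h) (S b) ≤ S a) : Mono (subsysι X S hS) := by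
  haveI : ∀ n, Mono ((subsysι X S hS).app n) := fun n => (inferInstance : Mono (S n.unop).arrow)
  exact NatTrans.mono_of_mono_app _

theorem epi_of_imT_eq_top {X : PS C} {a b : ℕ} (h : a ≤ b) (e : imT X h = ⊤) : Epi (tr X h) := by
  haveI : IsIso (imageSubobject (tr X h)).arrow := (Subobject.isIso_arrow_iff_eq_top _).mpr e
  rw [← imageSubobject_arrow_comp (tr X h)]
  exact epi_comp _ _

theorem subsys_isStrict (X : PS C) (S : ∀ n : ℕ, Subobject (X.obj (op n)))
    (hS : ∀ {a b : ℕ} (h : a ≤ b), img (tr X h) (S b) ≤ S a)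
    (hS' : ∀ {a b : ℕ} (h : a ≤ b), S a ≤ img (tr X h) (S b)) : IsStrict (subsys X S hS) := by
  intro a b h
  rw [epi_iff_surjective_up_to_refinements]
  intro T y
  obtain ⟨T', π, hπ, x, hx, e⟩ := (factors_img_iff _ _ _).mp
    (Subobject.factors_of_le _ (hS' h) (Subobject.factors_comp_arrow (P := S a) y))
  refine ⟨T', π, hπ, (S b).factorThru x hx, ?_⟩
  let y' : T ⟶ (S a : C) := y
  apply Subobject.eq_of_comp_arrow_eq
  refine (Category.assoc π y' _).trans (e.trans ?_)
  refine Eq.trans ?_ (Category.assoc ((S b).factorThru x hx)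
    ((S a).factorThru ((S b).arrow ≫ tr X h) (Subobject.factors_of_le _ (hS h) (factors_img (tr X h) (Subobject.factors_self _))))
    (S a).arrow).symm
  rw [Subobject.factorThru_arrow, ← Category.assoc, Subobject.factorThru_arrow]

/-- A strict universal image. -/
theorem exists_universalImage (hX : IsMLAR X) :
    ∃ (Z : PS C) (ι : Z ⟶ X) (r : ℕ), Mono ι ∧ IsStrict Z ∧ IsARIso ι ∧
      ∀ {a b : ℕ} (h : a + r ≤ b),
        imageSubobject (ι.app (op a)) = imT X ((Nat.le_add_right a r).trans h) := by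
  obtain ⟨r, hr⟩ := (isMLAR_iff X).mp hX
  have hS : ∀ {a b : ℕ} (h : a ≤ b), img (tr X h) (imT X (Nat.le_add_right b r)) = imT X (Nat.le_add_right a r) :=
    fun {a b} h => by rw [img_imT]; exact hr (Nat.add_le_add_right h r)
  let S : ∀ n, Subobject (X.obj (op n)) := fun n => imT X (Nat.le_add_right n r)
  let ι := subsysι X S (fun h => (hS h).le)
  have hc : ∀ a, (imT X (Nat.le_add_right a r)).arrow ≫ (cokernel.π ι).app (op a) = 0 := fun a =>
    congrArg (fun f => NatTrans.app f (op a)) (cokernel.condition ι)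
  refine ⟨subsys X S (fun h => (hS h).le), ι, r, inferInstance,
    subsys_isStrict X _ _ (fun h => (hS h).ge), arIso_of_mono _ ((isARNull_iff _).mpr ⟨r, fun {a b} h hab => ?_⟩),
    fun {a b} h => ?_⟩
  · rw [← cancel_epi ((cokernel.π ι).app (op b)), comp_zero, ← tr_app,
      ← tr_tr X (Nat.le_add_right a r) hab, ← imageSubobject_arrow_comp (tr X (Nat.le_add_right a r))]
    simp only [Category.assoc]
    rw [show (imageSubobject (tr X (Nat.le_add_right a r))).arrow ≫ (cokernel.π ι).app (op a) = 0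
      from hc a]
    simp
  · rw [hr h]
    show imageSubobject (imT X (Nat.le_add_right a r)).arrow = _
    rw [imageSubobject_mono, Subobject.mk_arrow]

theorem isMLAR_iff_exists_strict (X : PS C) :
    IsMLAR X ↔ ∃ (Z : PS C) (ι : Z ⟶ X), IsStrict Z ∧ IsARIso ι :=
  ⟨fun h => by
    obtain ⟨Z, ι, r, -, h1, h2, -⟩ := exists_universalImage h
    exact ⟨Z, ι, h1, h2⟩, fun ⟨_, _, h1, h2⟩ => isMLAR_of_arIso h2 (isMLAR_of_strict h1)⟩

theorem exists_strict_sub (hX : IsMLAR X) :
    ∃ (Z : PS C) (ι : Z ⟶ X), Mono ι ∧ IsStrict Z ∧ IsARIso ι := by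
  obtain ⟨Z, ι, r, h0, h1, h2, -⟩ := exists_universalImage hX
  exact ⟨Z, ι, h0, h1, h2⟩

/-- An isomorphism up to translation onto a strict system is an epimorphism. -/
theorem epi_of_arIso (hu : IsARIso u) (hY : IsStrict Y) : Epi u := by
  obtain ⟨i⟩ := exists_arInv hu
  haveI : ∀ n, Epi (u.app n) := fun ⟨n⟩ => by
    haveI := hY n (n + i.r) (Nat.le_add_right _ _)
    haveI : Epi (i.v (le_refl (n + i.r)) ≫ u.app (op n)) := by rw [i.v_u]; infer_instance
    exact epi_of_epi (i.v le_rfl) _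
  exact NatTrans.epi_of_epi_app u

theorem isStrict_of_epi (g : X ⟶ Y) [Epi g] (hX : IsStrict X) : IsStrict Y := by
  intro a b h
  haveI := hX a b h
  haveI : Epi (g.app (op b) ≫ tr Y h) := by rw [← tr_app g]; exact epi_comp _ _
  exact epi_of_epi (g.app (op b)) _

theorem isMLAR_extension {S : ShortComplex (PS C)} (hS : S.ShortExact) (h₁ : IsMLAR S.X₁)
    (h₃ : IsMLAR S.X₃) : IsMLAR S.X₂ := by
  obtain ⟨r, hr⟩ := (isMLAR_iff _).mp h₁
  obtain ⟨s, hs⟩ := (isMLAR_iff _).mp h₃
  haveI : Epi S.g := hS.epi_g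
  refine (isMLAR_iff _).mpr ⟨r + s, fun {a b} h => le_antisymm (imT_anti _ _ h) ?_⟩
  have hb : a + r ≤ b := by omega
  -- decompose an element of level `a + r` coming from far away
  have h1 : imT S.X₂ (show a + r ≤ a + (r + s) by omega) ≤ imT S.X₂ hb ⊔ img (S.f.app (op (a + r))) ⊤ := by
    have e : kernelSubobject (S.g.app (op (a + r))) ≤ img (S.f.app (op (a + r))) ⊤ := by
      rw [le_iff_factors]
      intro T x hx
      rw [kernelSubobject_factors_iff] at hx
      obtain ⟨T', π, hπ, y, hy⟩ :=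
        ((shortExact_app hS (a + r)).exact).exact_up_to_refinements x hx
      exact (factors_img_iff _ _ _).mpr ⟨T', π, hπ, y, Subobject.top_factors y, hy⟩
    refine le_trans ?_ (sup_le_sup_left e _)
    rw [← pre_img, ← img_le_iff]
    have key : ∀ {c : ℕ} (hc : a + r ≤ c), img (S.g.app (op (a + r))) (imT S.X₂ hc) = imT S.X₃ hc := fun {c} hc => by
      rw [imT_def, imT_def, img_img, tr_app S.g, ← img_img, img_top_of_epi (S.g.app (op c))]
    rw [key, key]
    exact (hs (show a + r + s ≤ a + (r + s) by omega)).trans_le ((hs (show a + r + s ≤ b + s by omega)).ge.trans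
      (imT_anti _ hb (Nat.le_add_right b s)))
  rw [show imT S.X₂ (Nat.le_add_right a (r + s)) = img (tr S.X₂ (Nat.le_add_right a r))
      (imT S.X₂ (show a + r ≤ a + (r + s) by omega)) from (img_imT _ _ _).symm]
  refine le_trans (img_mono _ h1) ?_
  rw [img_sup]
  refine sup_le (le_of_eq (img_imT _ _ _)) ?_
  rw [img_img, ← tr_app S.f, ← img_img, ← imT_def, ← hr hb]
  exact img_imT_le S.f _

end GrothLib.ARSys
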